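import Cfsg.Agent.Lib.SteinbergSL.Outer
import Mathlib

/-!
A chain of homomorphisms from `SL₃` agreeing on consecutive rank-one blocks, with distant rank-one groups
commuting, is the restriction of a homomorphism from `SL_{n+1}`.
-/

set_option autoImplicit false

namespace Cfsg.Agent.SteinbergSL.Chain

open Matrix Cfsg.Agent.SimpleFacts.SLnRootLifts Cfsg.Agent.SimpleFacts.SLnSystem
  Cfsg.Agent.SimpleFacts.SLnCosets Cfsg.Agent.SteinbergSL.Outer
open scoped commutatorElement

variable {F : Type*} [Field F] [Finite F] {G : Type*} [Group G]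

theorem idSystem {N : ℕ} :
    IsSystem (MonoidHom.id (SpecialLinearGroup (Fin N) F)) (fun i j a => T i j a) :=
  ⟨fun _ _ _ _ => rfl, fun _ _ h => T_add h, fun _ _ _ _ h1 h2 h3 h4 => T_comm h1 h2 h3 h4,
    fun _ _ _ h1 h2 h3 a b => T_bracket h3 h1 h2.symm.symm a b⟩

/-- The homomorphism has the given values on consecutive roots. -/
def Agree {N : ℕ} (U V : ℕ → F → G) (off : ℕ) (f : SpecialLinearGroup (Fin N) F →* G) : Prop :=
  ∀ (k : ℕ) (h : k + 1 < N) (a : F),
    f (T ⟨k, Nat.lt_of_succ_lt h⟩ ⟨k + 1, h⟩ a) = U (off + k) a ∧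
      f (T ⟨k + 1, h⟩ ⟨k, Nat.lt_of_succ_lt h⟩ a) = V (off + k) a

/-- The consecutive roots determine a homomorphism. -/
theorem hom_ext {N : ℕ} {f g : SpecialLinearGroup (Fin N) F →* G}
    (h : ∀ (k : ℕ) (hk : k + 1 < N) (a : F),
      f (T ⟨k, Nat.lt_of_succ_lt hk⟩ ⟨k + 1, hk⟩ a) = g (T ⟨k, Nat.lt_of_succ_lt hk⟩ ⟨k + 1, hk⟩ a) ∧
      f (T ⟨k + 1, hk⟩ ⟨k, Nat.lt_of_succ_lt hk⟩ a) = g (T ⟨k + 1, hk⟩ ⟨k, Nat.lt_of_succ_lt hk⟩ a)) :
    f = g := by
  have main : ∀ d i (hj : i + d < N), 0 < d → ∀ a : F,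
      f (T ⟨i, lt_of_le_of_lt (Nat.le_add_right i d) hj⟩ ⟨i + d, hj⟩ a) =
          g (T ⟨i, lt_of_le_of_lt (Nat.le_add_right i d) hj⟩ ⟨i + d, hj⟩ a) ∧
        f (T ⟨i + d, hj⟩ ⟨i, lt_of_le_of_lt (Nat.le_add_right i d) hj⟩ a) =
          g (T ⟨i + d, hj⟩ ⟨i, lt_of_le_of_lt (Nat.le_add_right i d) hj⟩ a) := by
    intro d
    induction d with
    | zero => intro i hj h0; exact absurd h0 (lt_irrefl 0)
    | succ d ih =>
      intro i hj _ a
      rcases Nat.eq_zero_or_pos d with rfl | hd
      · exact h i hj a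
      have hm : i + d < N := by omega
      have hs := h (i + d) (by omega)
      have hi : i < N := by omega
      have n1 : (⟨i, hi⟩ : Fin N) ≠ ⟨i + d, hm⟩ := fun e => by rw [Fin.ext_iff] at e; dsimp at e; omega
      have n2 : (⟨i + d, hm⟩ : Fin N) ≠ ⟨i + (d + 1), hj⟩ := fun e => by rw [Fin.ext_iff] at e; dsimp at e; omega
      have n3 : (⟨i, hi⟩ : Fin N) ≠ ⟨i + (d + 1), hj⟩ := fun e => by rw [Fin.ext_iff] at e; dsimp at e; omega
      constructor
      · rw [← mul_one a, ← T_bracket n3 n1 n2, map_commutatorElement, map_commutatorElement, (ih i hm hd a).1,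
          show (⟨i + (d + 1), hj⟩ : Fin N) = ⟨i + d + 1, by omega⟩ from rfl, (hs 1).1]
      · rw [← mul_one a, ← T_bracket n3.symm n2.symm n1.symm, map_commutatorElement, map_commutatorElement,
          (ih i hm hd 1).2, show (⟨i + (d + 1), hj⟩ : Fin N) = ⟨i + d + 1, by omega⟩ from rfl, (hs a).2]
  have htop : (f.eqLocus g) = ⊤ := by
    refine Classical.Linear.eq_top_of_transvection_mem _ fun i j hij c => ?_
    show f _ = g _
    rw [← T_eq hij]
    obtain ⟨i, hi⟩ := i
    obtain ⟨j, hj⟩ := j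
    rcases Nat.lt_or_gt_of_ne (fun e => hij (Fin.ext e)) with h' | h'
    · obtain ⟨d, rfl⟩ := Nat.exists_eq_add_of_lt h'
      exact (main (d + 1) i (by omega) (by omega) c).1
    · obtain ⟨d, rfl⟩ := Nat.exists_eq_add_of_lt h'
      exact (main (d + 1) j (by omega) (by omega) c).2
  exact MonoidHom.ext fun x => (htop ▸ Subgroup.mem_top x : x ∈ f.eqLocus g)

variable {U V : ℕ → F → G}

/-- The middle swaps act on any root as on matrices. -/
theorem map_conj {N : ℕ} (f : SpecialLinearGroup (Fin N) F →* G) {x y i j : Fin N} (hxy : x ≠ y) (hij : i ≠ j)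
    (a : F) : ∃ c, f (T x y 1 * T y x (-1) * T x y 1) * f (T i j a) * (f (T x y 1 * T y x (-1) * T x y 1))⁻¹ =
      f (T (Equiv.swap x y i) (Equiv.swap x y j) c) := by
  have hm := w_monomial (idSystem (F := F) (N := N)) hxy one_ne_zero
  have e := hm.conj hij a
  simp only [wWord, MonoidHom.id_apply, inv_one] at e
  exact ⟨_, by rw [← map_inv, ← map_mul, ← map_mul, e]⟩

/-- One step of the induction. -/
theorem step {M : ℕ} (hM : 3 ≤ M) {off : ℕ} (f f' : SpecialLinearGroup (Fin M) F →* G)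
    (hf : Agree U V off f) (hf' : Agree U V (off + 1) f')
    (hcom : ∀ a b, Commute (U off a) (U (off + (M - 1)) b) ∧ Commute (U off a) (V (off + (M - 1)) b) ∧
      Commute (V off a) (U (off + (M - 1)) b) ∧ Commute (V off a) (V (off + (M - 1)) b)) :
    ∃ F' : SpecialLinearGroup (Fin (M + 1)) F →* G, Agree U V off F' := by
  classical
  obtain ⟨K, rfl⟩ : ∃ K, M = K + 1 := ⟨M - 1, by omega⟩
  -- agreement on the middle
  have hagree : f.comp (blockHom (R := F) (Fin.succEmb K)) = f'.comp (blockHom (R := F) Fin.castSuccEmb) := by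
    refine hom_ext fun k hk a => ?_
    have e1 := hf (k + 1) (by omega) a
    have e2 := hf' k (by omega) a
    rw [show off + (k + 1) = off + 1 + k by omega] at e1
    have n1 : (⟨k, Nat.lt_of_succ_lt hk⟩ : Fin K) ≠ ⟨k + 1, hk⟩ := by simp [Fin.ext_iff]
    constructor
    · rw [MonoidHom.comp_apply, MonoidHom.comp_apply, blockHom_T _ n1, blockHom_T _ n1]
      exact e1.1.trans e2.1.symm
    · rw [MonoidHom.comp_apply, MonoidHom.comp_apply, blockHom_T _ n1.symm, blockHom_T _ n1.symm]
      exact e1.2.trans e2.2.symm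
  let e0 : Fin (K + 2) := 0
  let eM : Fin (K + 2) := Fin.last (K + 1)
  let Y : Fin (K + 2) → Fin (K + 2) → F → G := fun i j a =>
    if h : i.val < K + 1 ∧ j.val < K + 1 then f (T ⟨i, h.1⟩ ⟨j, h.2⟩ a)
    else if h' : 0 < i.val ∧ 0 < j.val then f' (T ⟨i - 1, by omega⟩ ⟨j - 1, by omega⟩ a) else 1
  have hlow : ∀ (i j : Fin (K + 2)) (hi : i.val < K + 1) (hj : j.val < K + 1) a,
      Y i j a = f (T ⟨i, hi⟩ ⟨j, hj⟩ a) := fun i j hi hj a => dif_pos (⟨hi, hj⟩ : i.val < K + 1 ∧ j.val < K + 1)
  have hhigh : ∀ (i j : Fin (K + 2)) (hi : 0 < i.val) (hj : 0 < j.val), i ≠ j → ∀ a,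
      Y i j a = f' (T ⟨i - 1, by omega⟩ ⟨j - 1, by omega⟩ a) := by
    intro i j hi hj hij a
    by_cases h : i.val < K + 1 ∧ j.val < K + 1
    · rw [hlow i j h.1 h.2]
      have n1 : (⟨i.val - 1, by omega⟩ : Fin K) ≠ ⟨j.val - 1, by omega⟩ := fun e => by
        rw [Fin.ext_iff] at e; rw [ne_eq, Fin.ext_iff] at hij; simp only at e; omega
      have e := DFunLike.congr_fun hagree (T ⟨i.val - 1, by omega⟩ ⟨j.val - 1, by omega⟩ a)
      rw [MonoidHom.comp_apply, MonoidHom.comp_apply, blockHom_T _ n1, blockHom_T _ n1] at e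
      refine Eq.trans ?_ (e.trans rfl)
      congr 2 <;> exact Fin.ext (by simp [Fin.succEmb]; omega)
    · exact (dif_neg h).trans (dif_pos (⟨hi, hj⟩ : 0 < i.val ∧ 0 < j.val))
  have okiff : ∀ i j : Fin (K + 2), Ok e0 eM i j ↔
      i.val ≠ j.val ∧ ¬(i.val = 0 ∧ j.val = K + 1) ∧ ¬(i.val = K + 1 ∧ j.val = 0) := fun i j => by
    simp only [Ok, e0, eM, ne_eq, Fin.ext_iff, Fin.val_zero, Fin.val_last]
  have side : ∀ i j : Fin (K + 2), Ok e0 eM i j →
      (i.val < K + 1 ∧ j.val < K + 1) ∨ (0 < i.val ∧ 0 < j.val) := fun i j h => by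
    rw [okiff] at h; omega
  -- the pairs of roots at opposite ends
  obtain ⟨Q, hQ⟩ : ∃ Q : Fin (K + 2) → Fin (K + 2) → Prop, ∀ p q, Q p q ↔ ∀ a b,
      Commute (Y e0 p a) (Y q eM b) ∧ Commute (Y e0 p a) (Y eM q b) ∧
      Commute (Y p e0 a) (Y q eM b) ∧ Commute (Y p e0 a) (Y eM q b) := ⟨_, fun _ _ => Iff.rfl⟩
  let Mid : Fin (K + 2) → Prop := fun i => 0 < i.val ∧ i.val < K + 1
  have hne : ∀ i, Mid i → i ≠ e0 ∧ i ≠ eM := fun i hi => by
    simp only [Mid] at hi
    simp only [e0, eM, ne_eq, Fin.ext_iff, Fin.val_zero, Fin.val_last]; omega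
  have hconj : ∀ (x y i j : Fin (K + 2)), Mid x → Mid y → x ≠ y → Ok e0 eM i j → ∀ a, ∃ c,
      (Y x y 1 * Y y x (-1) * Y x y 1) * Y i j a * (Y x y 1 * Y y x (-1) * Y x y 1)⁻¹ =
        Y (Equiv.swap x y i) (Equiv.swap x y j) c := by
    intro x y i j hx hy hxy hok a
    have hij : i.val ≠ j.val := ((okiff i j).1 hok).1
    have hs : ∀ k : Fin (K + 2), (k.val = 0 ∨ k.val = K + 1) → Equiv.swap x y k = k := fun k hk =>
      Equiv.swap_apply_of_ne_of_ne (fun e => by subst e; simp only [Mid] at hx; omega)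
        (fun e => by subst e; simp only [Mid] at hy; omega)
    rcases side i j hok with ⟨hi, hj⟩ | ⟨hi, hj⟩
    · have hx' : x.val < K + 1 := hx.2
      have hy' : y.val < K + 1 := hy.2
      rw [hlow x y hx' hy', hlow y x hy' hx', hlow i j hi hj, ← map_mul, ← map_mul]
      obtain ⟨c, hc⟩ := map_conj f (x := (⟨x, hx'⟩ : Fin (K + 1))) (y := ⟨y, hy'⟩) (i := ⟨i, hi⟩) (j := ⟨j, hj⟩)
        (fun e => hxy (Fin.ext (congrArg Fin.val e :))) (fun e => hij (congrArg Fin.val e :)) a
      have hsw : ∀ (k : Fin (K + 2)) (hk : k.val < K + 1),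
          ((Equiv.swap (⟨x, hx'⟩ : Fin (K + 1)) ⟨y, hy'⟩ ⟨k, hk⟩ : Fin (K + 1)) : ℕ) = (Equiv.swap x y k).val := by
        intro k hk
        rw [Equiv.swap_apply_def, Equiv.swap_apply_def]
        simp only [Fin.ext_iff]
        split_ifs <;> rfl
      refine ⟨c, hc.trans ?_⟩
      rw [hlow _ _ ((hsw i hi).symm ▸ Fin.isLt _) ((hsw j hj).symm ▸ Fin.isLt _)]
      congr 2 <;> exact Fin.ext (hsw _ _)
    · have hx' : 0 < x.val := hx.1
      have hy' : 0 < y.val := hy.1
      have hijne : i ≠ j := fun e => hij (congrArg Fin.val e)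
      rw [hhigh x y hx' hy' hxy, hhigh y x hy' hx' hxy.symm, hhigh i j hi hj hijne, ← map_mul, ← map_mul]
      obtain ⟨c, hc⟩ := map_conj f' (x := (⟨x - 1, by omega⟩ : Fin (K + 1))) (y := ⟨y - 1, by omega⟩)
        (i := ⟨i - 1, by omega⟩) (j := ⟨j - 1, by omega⟩)
        (fun e => by rw [Fin.ext_iff] at e; exact hxy (Fin.ext (by simp only at e; omega)))
        (fun e => by rw [Fin.ext_iff] at e; simp only at e; omega) a
      have hsw : ∀ (k : Fin (K + 2)), 0 < k.val →
          ((Equiv.swap (⟨x - 1, by omega⟩ : Fin (K + 1)) ⟨y - 1, by omega⟩ ⟨k - 1, by omega⟩ : Fin (K + 1)) : ℕ) =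
            (Equiv.swap x y k).val - 1 ∧ 0 < (Equiv.swap x y k).val := by
        intro k hk
        rw [Equiv.swap_apply_def, Equiv.swap_apply_def]
        simp only [Fin.ext_iff]
        split_ifs <;> simp only [and_true, true_and] <;> omega
      refine ⟨c, hc.trans ?_⟩
      rw [hhigh _ _ (hsw i hi).2 (hsw j hj).2 ((Equiv.injective _).ne hijne)]
      congr 2 <;> exact Fin.ext (hsw _ (by assumption)).1
  have hswap : ∀ x y p q, Mid x → Mid y → x ≠ y → Mid p → Mid q →
      Q (Equiv.swap x y p) (Equiv.swap x y q) → Q p q := by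
    intro x y p q hx hy hxy hp hq h
    rw [hQ] at h ⊢
    set g := Y x y 1 * Y y x (-1) * Y x y 1
    have h0 : Equiv.swap x y e0 = e0 := Equiv.swap_apply_of_ne_of_ne (hne x hx).1.symm (hne y hy).1.symm
    have hM : Equiv.swap x y eM = eM := Equiv.swap_apply_of_ne_of_ne (hne x hx).2.symm (hne y hy).2.symm
    intro a b
    obtain ⟨a1, ea1⟩ := hconj x y e0 p hx hy hxy (ok_mid' (hne p hp).1.symm (hne p hp)) a
    obtain ⟨a2, ea2⟩ := hconj x y p e0 hx hy hxy (ok_mid (hne p hp).1 (hne p hp)) a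
    obtain ⟨b1, eb1⟩ := hconj x y q eM hx hy hxy (ok_mid (hne q hq).2 (hne q hq)) b
    obtain ⟨b2, eb2⟩ := hconj x y eM q hx hy hxy (ok_mid' (hne q hq).2.symm (hne q hq)) b
    rw [h0] at ea1 ea2
    rw [hM] at eb1 eb2
    refine ⟨?_, ?_, ?_, ?_⟩ <;> refine (Commute.conj_iff g).1 ?_
    · rw [ea1, eb1]; exact (h a1 b1).1
    · rw [ea1, eb2]; exact (h a1 b2).2.1
    · rw [ea2, eb1]; exact (h a2 b1).2.2.1
    · rw [ea2, eb2]; exact (h a2 b2).2.2.2
  have hQall : ∀ p q, Mid p → Mid q → p ≠ q → Q p q := by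
    let one : Fin (K + 2) := ⟨1, by omega⟩
    let top : Fin (K + 2) := ⟨K, by omega⟩
    have h1 : Mid one := by simp only [Mid, one]; omega
    have hK : Mid top := by simp only [Mid, top]; omega
    have hbase : Q one top := by
      rw [hQ]
      intro a b
      have a1 : Y e0 one a = U off a := by
        rw [hlow e0 one (by simp [e0]) (by simp [one]; omega)]
        exact (hf 0 (by omega) a).1
      have a2 : Y one e0 a = V off a := by
        rw [hlow one e0 (by simp [one]; omega) (by simp [e0])]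
        exact (hf 0 (by omega) a).2
      have b1 : Y top eM b = U (off + K) b := by
        rw [hhigh top eM (by simp [top]; omega) (by simp [eM]) (hne top hK).2]
        have e := (hf' (K - 1) (by omega) b).1
        rw [show off + 1 + (K - 1) = off + K by omega] at e
        rw [← e]
        congr 2
        exact Fin.ext (by simp [eM]; omega)
      have b2 : Y eM top b = V (off + K) b := by
        rw [hhigh eM top (by simp [eM]) (by simp [top]; omega) (hne top hK).2.symm]
        have e := (hf' (K - 1) (by omega) b).2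
        rw [show off + 1 + (K - 1) = off + K by omega] at e
        rw [← e]
        congr 2
        exact Fin.ext (by simp [eM]; omega)
      rw [a1, a2, b1, b2]
      simpa using hcom a b
    have h1K : one ≠ top := by simp [one, top]; omega
    have hsecond : ∀ q, Mid q → q ≠ one → Q one q := by
      intro q hq hq1
      rcases eq_or_ne q top with rfl | hqt
      · exact hbase
      refine hswap q top one q hq hK hqt h1 hq ?_
      rw [Equiv.swap_apply_of_ne_of_ne hq1.symm h1K, Equiv.swap_apply_left]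
      exact hbase
    intro p q hp hq hpq
    rcases eq_or_ne p one with rfl | hp1
    · exact hsecond q hq hpq.symm
    refine hswap p one p q hp h1 hp1 hp hq ?_
    rw [Equiv.swap_apply_left]
    refine hsecond _ ?_ ?_
    · simp only [Mid] at hp hq h1 ⊢
      rw [Equiv.swap_apply_def]
      split_ifs <;> assumption
    · intro e
      exact hpq ((Equiv.injective (Equiv.swap p one)) (by rw [Equiv.swap_apply_left, e]))
  have hrel : Rels Y (Ok e0 eM) := by
    have hb : ∀ i j k, Ok e0 eM i j → Ok e0 eM j k → Ok e0 eM i k → ∀ a b, ⁅Y i j a, Y j k b⁆ = Y i k (a * b) := by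
      intro i j k h1 h2 h3 a b
      have hij : i ≠ j := h1.1
      have hjk : j ≠ k := h2.1
      have hik : i ≠ k := h3.1
      have : (i.val < K + 1 ∧ j.val < K + 1 ∧ k.val < K + 1) ∨ (0 < i.val ∧ 0 < j.val ∧ 0 < k.val) := by
        rw [okiff] at h1 h2 h3; omega
      rcases this with ⟨hi, hj, hk⟩ | ⟨hi, hj, hk⟩
      · rw [hlow i j hi hj, hlow j k hj hk, hlow i k hi hk, ← map_commutatorElement, T_bracket]
        all_goals intro e; rw [Fin.ext_iff] at e; simp only at e
        · exact hik (Fin.ext e)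
        · exact hij (Fin.ext e)
        · exact hjk (Fin.ext e)
      · rw [hhigh i j hi hj hij, hhigh j k hj hk hjk, hhigh i k hi hk hik, ← map_commutatorElement, T_bracket]
        all_goals intro e; rw [Fin.ext_iff] at e; simp only at e
        · exact hik (Fin.ext (by omega))
        · exact hij (Fin.ext (by omega))
        · exact hjk (Fin.ext (by omega))
    refine ⟨fun i j h a b => ?_, fun i j k l h h' hil hjk a b => ?_, hb⟩
    · rcases side i j h with ⟨hi, hj⟩ | ⟨hi, hj⟩
      · rw [hlow i j hi hj, hlow i j hi hj, hlow i j hi hj, ← map_mul, T_add]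
        exact fun e => h.1 (Fin.ext (congrArg Fin.val e :))
      · rw [hhigh i j hi hj h.1, hhigh i j hi hj h.1, hhigh i j hi hj h.1, ← map_mul, T_add]
        intro e; rw [Fin.ext_iff] at e; simp only at e
        exact h.1 (Fin.ext (by omega))
    · have cross : ∀ i j k l, Ok e0 eM i j → Ok e0 eM k l → i ≠ l → j ≠ k →
          (i.val = 0 ∨ j.val = 0) → (k.val = K + 1 ∨ l.val = K + 1) → ∀ a b, Commute (Y i j a) (Y k l b) := by
        intro i j k l h h' hil hjk h0 hM a b
        have hi' := (okiff i j).1 h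
        have hk' := (okiff k l).1 h'
        -- an index between the two ends
        rcases h0 with h0 | h0 <;> rcases hM with hM | hM
        · -- (0, j), (K+1, l)
          obtain rfl : i = e0 := Fin.ext h0
          obtain rfl : k = eM := Fin.ext hM
          have hj : Mid j := by simp only [Mid]; omega
          have hl : Mid l := by simp only [Mid]; omega
          rcases eq_or_ne j l with rfl | hjl
          · obtain ⟨q, hq, hqj⟩ : ∃ q, Mid q ∧ q ≠ j := by
              by_cases e : j.val = 1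
              · exact ⟨⟨2, by omega⟩, by simp only [Mid]; omega, fun e' => by rw [← e'] at e; simp at e⟩
              · exact ⟨⟨1, by omega⟩, by simp only [Mid]; omega, fun e' => by rw [← e'] at e; simp at e⟩
            have hq' := hne q hq
            rw [← mul_one a, ← hb e0 q j (ok_mid' hq'.1.symm hq') (ok_mid hqj hq') h a 1]
            refine (commute_comm (((hQ q j).1 (hQall q j hq hj hqj) a b).2.1).symm ?_).symm
            rw [hhigh eM j (by simp [eM]) hj.1 (hne j hj).2.symm, hhigh q j hq.1 hj.1 hqj]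
            refine Commute.map ?_ f'
            refine T_comm ?_ ?_ ?_ ?_ b 1 <;> intro e' <;> rw [Fin.ext_iff] at e' <;>
              simp [eM] at e' <;> simp only [Mid] at hq hj <;> rw [Ne, Fin.ext_iff] at hqj <;> omega
          · exact ((hQ j l).1 (hQall j l hj hl hjl) a b).2.1
        · obtain rfl : i = e0 := Fin.ext h0
          obtain rfl : l = eM := Fin.ext hM
          have hj : Mid j := by simp only [Mid]; omega
          have hk : Mid k := by simp only [Mid]; omega
          exact ((hQ j k).1 (hQall j k hj hk hjk) a b).1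
        · obtain rfl : j = e0 := Fin.ext h0
          obtain rfl : k = eM := Fin.ext hM
          have hi : Mid i := by simp only [Mid]; omega
          have hl : Mid l := by simp only [Mid]; omega
          exact ((hQ i l).1 (hQall i l hi hl hil) a b).2.2.2
        · obtain rfl : j = e0 := Fin.ext h0
          obtain rfl : l = eM := Fin.ext hM
          have hi : Mid i := by simp only [Mid]; omega
          have hk : Mid k := by simp only [Mid]; omega
          rcases eq_or_ne i k with rfl | hik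
          · obtain ⟨q, hq, hqi⟩ : ∃ q, Mid q ∧ q ≠ i := by
              by_cases e : i.val = 1
              · exact ⟨⟨2, by omega⟩, by simp only [Mid]; omega, fun e' => by rw [← e'] at e; simp at e⟩
              · exact ⟨⟨1, by omega⟩, by simp only [Mid]; omega, fun e' => by rw [← e'] at e; simp at e⟩
            have hq' := hne q hq
            rw [← one_mul a, ← hb i q e0 (ok_mid hqi.symm (hne i hi)) (ok_mid hq'.1 hq') h 1 a]
            refine (commute_comm ?_ (((hQ q i).1 (hQall q i hq hi hqi) a b).2.2.1).symm).symm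
            rw [hhigh i eM hi.1 (by simp [eM]) (hne i hi).2, hhigh i q hi.1 hq.1 hqi.symm]
            refine Commute.map ?_ f'
            refine T_comm ?_ ?_ ?_ ?_ b 1 <;> intro e' <;> rw [Fin.ext_iff] at e' <;>
              simp [eM] at e' <;> simp only [Mid] at hq hi <;> rw [Ne, Fin.ext_iff] at hqi <;> omega
          · exact ((hQ i k).1 (hQall i k hi hk hik) a b).2.2.1
      by_cases hall : i.val < K + 1 ∧ j.val < K + 1 ∧ k.val < K + 1 ∧ l.val < K + 1
      · obtain ⟨hi, hj, hk, hl⟩ := hall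
        rw [hlow i j hi hj, hlow k l hk hl]
        refine Commute.map ?_ f
        refine T_comm ?_ ?_ ?_ ?_ a b <;> intro e <;> rw [Fin.ext_iff] at e <;> simp only at e
        · exact h.1 (Fin.ext e)
        · exact h'.1 (Fin.ext e)
        · exact hil (Fin.ext e)
        · exact hjk (Fin.ext e)
      by_cases hall' : 0 < i.val ∧ 0 < j.val ∧ 0 < k.val ∧ 0 < l.val
      · obtain ⟨hi, hj, hk, hl⟩ := hall'
        rw [hhigh i j hi hj h.1, hhigh k l hk hl h'.1]
        refine Commute.map ?_ f'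
        refine T_comm ?_ ?_ ?_ ?_ a b <;> intro e <;> rw [Fin.ext_iff] at e <;> simp only at e
        · exact h.1 (Fin.ext (by omega))
        · exact h'.1 (Fin.ext (by omega))
        · exact hil (Fin.ext (by omega))
        · exact hjk (Fin.ext (by omega))
      have hi' := (okiff i j).1 h
      have hk' := (okiff k l).1 h'
      by_cases h0 : i.val = 0 ∨ j.val = 0
      · exact cross i j k l h h' hil hjk h0 (by omega) a b
      · exact (cross k l i j h' h hjk.symm hil.symm (by omega) (by omega) b a).symm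
  have hp : (⟨1, by omega⟩ : Fin (K + 2)) ≠ e0 ∧ (⟨1, by omega⟩ : Fin (K + 2)) ≠ eM :=
    hne _ (by simp only [Mid]; omega)
  have hq : (⟨2, by omega⟩ : Fin (K + 2)) ≠ e0 ∧ (⟨2, by omega⟩ : Fin (K + 2)) ≠ eM :=
    hne _ (by simp only [Mid]; omega)
  obtain ⟨Y', hY', hfull⟩ := Outer.exists_full hrel (by simp [e0, eM, Fin.ext_iff]) hp hq (by simp [Fin.ext_iff])
  obtain ⟨Φ, hΦ⟩ := Outer.exists_hom (by simp; omega) hfull
  refine ⟨Φ, fun k hk a => ?_⟩
  have n1 : (⟨k, Nat.lt_of_succ_lt hk⟩ : Fin (K + 2)) ≠ ⟨k + 1, hk⟩ := by simp [Fin.ext_iff]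
  have hok : Ok e0 eM (⟨k, Nat.lt_of_succ_lt hk⟩ : Fin (K + 2)) ⟨k + 1, hk⟩ := by
    rw [okiff]; simp only; omega
  rw [hΦ _ _ n1, hΦ _ _ n1.symm, hY' _ _ hok, hY' _ _ hok.symm]
  rcases Nat.eq_zero_or_pos k with rfl | hk0
  · rw [hlow _ _ (show 0 < K + 1 by omega) (show 0 + 1 < K + 1 by omega),
      hlow _ _ (show 0 + 1 < K + 1 by omega) (show 0 < K + 1 by omega)]
    exact hf 0 (by omega) a
  · rw [hhigh _ _ hk0 (show 0 < k + 1 by omega) n1, hhigh _ _ (show 0 < k + 1 by omega) hk0 n1.symm]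
    obtain ⟨m, rfl⟩ : ∃ m, k = m + 1 := ⟨k - 1, by omega⟩
    have := hf' m (by omega) a
    rw [show off + 1 + m = off + (m + 1) by omega] at this
    exact this

/-- The chain gives a homomorphism from the special linear group. -/
theorem exists_hom {n : ℕ} (h3 : ∀ k, k + 1 < n → ∃ Φ : SpecialLinearGroup (Fin 3) F →* G, Agree U V k Φ)
    (hcom : ∀ i j, i + 2 ≤ j → j < n → ∀ a b, Commute (U i a) (U j b) ∧ Commute (U i a) (V j b) ∧
      Commute (V i a) (U j b) ∧ Commute (V i a) (V j b)) :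
    ∀ N, 3 ≤ N → ∀ off, off + N ≤ n + 1 → ∃ f : SpecialLinearGroup (Fin N) F →* G, Agree U V off f := by
  intro N hN
  induction N, hN using Nat.le_induction with
  | base => exact fun off h => h3 off (by omega)
  | succ M hM ih =>
    intro off h
    obtain ⟨f, hf⟩ := ih off (by omega)
    obtain ⟨f', hf'⟩ := ih (off + 1) (by omega)
    exact step hM f f' hf hf' (hcom off (off + (M - 1)) (by omega) (by omega))

end Cfsg.Agent.SteinbergSL.Chain
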