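import Cfsg.Agent.Lib.SteinbergSL.Many
import Mathlib

/-!
Steinberg systems: a family satisfying the relations of `SL_n` away from one opposite pair of roots extends,
and a full family gives a homomorphism from `SL_n`.
-/

set_option autoImplicit false

namespace Cfsg.Agent.SteinbergSL.Outer

open Matrix Cfsg.Agent.SimpleFacts.SLnRootLifts Cfsg.Agent.SimpleFacts.SLnSystem
open scoped commutatorElement

variable {n : Type*} {F : Type*} [Field F] {G : Type*} [Group G]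

/-- Steinberg's relations among the allowed roots. -/
structure Rels (Y : n → n → F → G) (ok : n → n → Prop) : Prop where
  add : ∀ i j, ok i j → ∀ a b, Y i j (a + b) = Y i j a * Y i j b
  comm : ∀ i j k l, ok i j → ok k l → i ≠ l → j ≠ k → ∀ a b, Commute (Y i j a) (Y k l b)
  bracket : ∀ i j k, ok i j → ok j k → ok i k → ∀ a b, ⁅Y i j a, Y j k b⁆ = Y i k (a * b)

/-- A root other than the outer pair. -/
def Ok (o e i j : n) : Prop := i ≠ j ∧ ¬(i = o ∧ j = e) ∧ ¬(i = e ∧ j = o)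

theorem Ok.symm {o e i j : n} (h : Ok o e i j) : Ok o e j i :=
  ⟨h.1.symm, fun h' => h.2.2 ⟨h'.2, h'.1⟩, fun h' => h.2.1 ⟨h'.2, h'.1⟩⟩

theorem ok_swap (o e : n) : Ok e o = Ok o e :=
  funext fun i => funext fun j => propext
    ⟨fun h => ⟨h.1, h.2.2, h.2.1⟩, fun h => ⟨h.1, h.2.2, h.2.1⟩⟩

theorem ok_mid {o e i j : n} (hij : i ≠ j) (hi : i ≠ o ∧ i ≠ e) : Ok o e i j :=
  ⟨hij, fun h => hi.1 h.1, fun h => hi.2 h.1⟩

theorem ok_mid' {o e i j : n} (hij : i ≠ j) (hj : j ≠ o ∧ j ≠ e) : Ok o e i j :=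
  ⟨hij, fun h => hj.2 h.2, fun h => hj.1 h.2⟩

/-- The associativity of commutators used throughout. -/
theorem jacobi {A B C : G} (hAC : Commute A C) (hE : Commute ⁅B, C⁆ B) (hA : Commute ⁅A, ⁅B, C⁆⁆ A)
    (hB : Commute ⁅A, ⁅B, C⁆⁆ B) (hZ : Commute ⁅A, ⁅B, C⁆⁆ ⁅B, C⁆) :
    ⁅⁅A, B⁆, C⁆ = ⁅A, ⁅B, C⁆⁆ := by
  set E := ⁅B, C⁆ with hEdef
  set Z := ⁅A, E⁆ with hZdef
  have e1 : B⁻¹ * C * B = E⁻¹ * C := by
    calc B⁻¹ * C * B = B⁻¹ * E⁻¹ * (B * C) := by rw [hEdef, commutatorElement_def]; group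
      _ = E⁻¹ * B⁻¹ * (B * C) := by rw [hE.inv_inv.eq]
      _ = _ := by group
  have e2 : A⁻¹ * E⁻¹ * A = E⁻¹ * Z := by
    calc A⁻¹ * E⁻¹ * A = E⁻¹ * (A⁻¹ * (Z * A)) := by rw [hZdef, commutatorElement_def]; group
      _ = _ := by rw [hA.eq]; group
  calc ⁅⁅A, B⁆, C⁆ = A * B * A⁻¹ * (B⁻¹ * C * B) * A * B⁻¹ * A⁻¹ * C⁻¹ := by
        simp only [commutatorElement_def]; group
    _ = A * B * A⁻¹ * E⁻¹ * (C * A) * B⁻¹ * A⁻¹ * C⁻¹ := by rw [e1]; group
    _ = A * B * (A⁻¹ * E⁻¹ * A) * (C * B⁻¹ * (A⁻¹ * C⁻¹)) := by rw [← hAC.eq]; group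
    _ = A * B * (E⁻¹ * Z) * (C * B⁻¹ * (C⁻¹ * A⁻¹)) := by rw [e2, hAC.inv_inv.eq]
    _ = A * (B * E⁻¹) * (Z * B⁻¹) * (E * A⁻¹) := by rw [hEdef, commutatorElement_def]; group
    _ = A * (E⁻¹ * B) * (B⁻¹ * Z) * (E * A⁻¹) := by rw [hE.inv_left.eq, hB.inv_right.eq]
    _ = A * E⁻¹ * (Z * E) * A⁻¹ := by group
    _ = A * (Z * A⁻¹) := by rw [hZ.eq]; group
    _ = Z := by rw [hA.inv_right.eq]; group

theorem commute_comm {A B D : G} (hA : Commute D A) (hB : Commute D B) : Commute D ⁅A, B⁆ := by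
  rw [commutatorElement_def]
  exact ((hA.mul_right hB).mul_right hA.inv_right).mul_right hB.inv_right

variable {Y : n → n → F → G} {o e : n} (hY : Rels Y (Ok o e))
include hY

theorem Y_zero {i j : n} (h : Ok o e i j) : Y i j 0 = 1 := by
  have e := hY.add i j h 0 0
  rwa [add_zero, left_eq_mul] at e

theorem Y_inv {i j : n} (h : Ok o e i j) (a : F) : (Y i j a)⁻¹ = Y i j (-a) :=
  inv_eq_of_mul_eq_one_right (by rw [← hY.add i j h, add_neg_cancel, Y_zero hY h])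

/-- The missing root from the outer index to the other. -/
theorem exists_root (hoe : o ≠ e) {p q : n} (hp : p ≠ o ∧ p ≠ e) (hq : q ≠ o ∧ q ≠ e) (hpq : p ≠ q) :
    ∃ Z : F → G, (∀ a b, Z (a + b) = Z a * Z b) ∧ (∀ a b, Commute (Z a) (Z b)) ∧
      (∀ k l, Ok o e k l → o ≠ l → e ≠ k → ∀ a b, Commute (Z a) (Y k l b)) ∧
      (∀ x, x ≠ o ∧ x ≠ e → ∀ a b, ⁅Y o x a, Y x e b⁆ = Z (a * b)) ∧
      (∀ v, v ≠ o ∧ v ≠ e → ∀ a b, ⁅Z a, Y e v b⁆ = Y o v (a * b)) ∧
      ∀ u, u ≠ o ∧ u ≠ e → ∀ a b, ⁅Y u o b, Z a⁆ = Y u e (b * a) := by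
  obtain ⟨P, hP⟩ : ∃ P : n → F → F → G, ∀ x a b, P x a b = ⁅Y o x a, Y x e b⁆ := ⟨_, fun _ _ _ => rfl⟩
  have other : ∀ x, ∃ y, (y ≠ o ∧ y ≠ e) ∧ y ≠ x := fun x => by
    by_cases h : x = p
    · exact ⟨q, hq, fun h' => hpq (h'.trans h).symm⟩
    · exact ⟨p, hp, fun h' => h h'.symm⟩
  have hrow : ∀ x v, x ≠ o ∧ x ≠ e → v ≠ o ∧ v ≠ e → v ≠ x → ∀ a b c, Commute (Y o v c) (P x a b) :=
    fun x v hx hv hvx a b c => by
      rw [hP]
      exact commute_comm
        (hY.comm _ _ _ _ (ok_mid' hv.1.symm hv) (ok_mid' hx.1.symm hx) hx.1.symm hv.1 c a)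
        (hY.comm _ _ _ _ (ok_mid' hv.1.symm hv) (ok_mid hx.2 hx) hoe hvx c b)
  have hcol : ∀ x u, x ≠ o ∧ x ≠ e → u ≠ o ∧ u ≠ e → u ≠ x → ∀ a b c, Commute (Y u e c) (P x a b) :=
    fun x u hx hu hux a b c => by
      rw [hP]
      exact commute_comm
        (hY.comm _ _ _ _ (ok_mid hu.2 hu) (ok_mid' hx.1.symm hx) hux hoe.symm c a)
        (hY.comm _ _ _ _ (ok_mid hu.2 hu) (ok_mid hx.2 hx) hu.2 hx.2.symm c b)
  have hmid : ∀ x k l, x ≠ o ∧ x ≠ e → k ≠ o ∧ k ≠ e → l ≠ o ∧ l ≠ e → k ≠ l →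
      ∀ a b c, Commute (Y k l c) (P x a b) := by
    intro x k l hx hk hl hkl a b c
    have hfix : ∀ B W : G, B * P x a b * B⁻¹ = W * P x a b * W⁻¹ → Commute W (P x a b) →
        Commute B (P x a b) := fun B W h hW => by
      rw [hW.eq, mul_inv_cancel_right, mul_inv_eq_iff_eq_mul] at h
      exact h
    rcases eq_or_ne k x with rfl | hkx
    · refine hfix _ (Y o l (-(a * c))) ?_ (hrow k l hx hl hkl.symm a b _)
      have e1 : Y k l c * Y o k a * (Y k l c)⁻¹ = Y o l (-(a * c)) * Y o k a := by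
        rw [← Y_inv hY (ok_mid' hl.1.symm hl),
          ← hY.bracket o k l (ok_mid' hk.1.symm hk) (ok_mid hkl hk) (ok_mid' hl.1.symm hl),
          commutatorElement_def]
        group
      have e2 : Y k l c * Y k e b * (Y k l c)⁻¹ = Y k e b := by
        rw [(hY.comm _ _ _ _ (ok_mid hkl hk) (ok_mid hk.2 hk) hk.2 hkl.symm c b).eq, mul_inv_cancel_right]
      have hW : Commute (Y o l (-(a * c))) (Y k e b) :=
        hY.comm _ _ _ _ (ok_mid' hl.1.symm hl) (ok_mid hk.2 hk) hoe hkl.symm _ _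
      calc Y k l c * P k a b * (Y k l c)⁻¹
          = ⁅Y k l c * Y o k a * (Y k l c)⁻¹, Y k l c * Y k e b * (Y k l c)⁻¹⁆ := by
            rw [hP]; simp only [commutatorElement_def]; group
        _ = Y o l (-(a * c)) * (Y o k a * Y k e b * (Y o k a)⁻¹) *
              ((Y o l (-(a * c)))⁻¹ * (Y k e b)⁻¹) := by
            rw [e1, e2, commutatorElement_def]; group
        _ = _ := by rw [hW.inv_inv.eq, hP, commutatorElement_def]; group
    · rcases eq_or_ne l x with rfl | hlx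
      · refine hfix _ (Y k e (c * b)) ?_ (hcol l k hx hk hkl a b _)
        have e1 : Y k l c * Y o l a * (Y k l c)⁻¹ = Y o l a := by
          rw [(hY.comm _ _ _ _ (ok_mid hkl hk) (ok_mid' hl.1.symm hl) hkl hl.1 c a).eq, mul_inv_cancel_right]
        have e2 : Y k l c * Y l e b * (Y k l c)⁻¹ = Y k e (c * b) * Y l e b := by
          rw [← hY.bracket k l e (ok_mid hkl hk) (ok_mid hl.2 hl) (ok_mid hk.2 hk), commutatorElement_def]
          group
        have hW : Commute (Y o l a) (Y k e (c * b)) :=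
          hY.comm _ _ _ _ (ok_mid' hl.1.symm hl) (ok_mid hk.2 hk) hoe hkl.symm _ _
        calc Y k l c * P l a b * (Y k l c)⁻¹
            = ⁅Y k l c * Y o l a * (Y k l c)⁻¹, Y k l c * Y l e b * (Y k l c)⁻¹⁆ := by
              rw [hP]; simp only [commutatorElement_def]; group
          _ = (Y o l a * Y k e (c * b)) * (Y l e b * (Y o l a)⁻¹ * ((Y l e b)⁻¹ * (Y k e (c * b))⁻¹)) := by
              rw [e1, e2, commutatorElement_def]; group
          _ = _ := by rw [hW.eq, hP, commutatorElement_def]; group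
      · rw [hP]
        exact commute_comm
          (hY.comm _ _ _ _ (ok_mid hkl hk) (ok_mid' hx.1.symm hx) hkx hl.1 c a)
          (hY.comm _ _ _ _ (ok_mid hkl hk) (ok_mid hx.2 hx) hk.2 hlx c b)
  have hrow' : ∀ x v, x ≠ o ∧ x ≠ e → v ≠ o ∧ v ≠ e → ∀ a b c, Commute (Y o v c) (P x a b) := by
    intro x v hx hv a b c
    by_cases hvx : v = x
    · obtain ⟨y, hy, hyx⟩ := other x
      subst hvx
      rw [← mul_one c, ← hY.bracket o y v (ok_mid' hy.1.symm hy) (ok_mid hyx hy) (ok_mid' hv.1.symm hv)]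
      exact (commute_comm (hrow v y hx hy hyx a b c).symm (hmid v y v hx hy hv hyx a b 1).symm).symm
    · exact hrow x v hx hv hvx a b c
  have hcol' : ∀ x u, x ≠ o ∧ x ≠ e → u ≠ o ∧ u ≠ e → ∀ a b c, Commute (Y u e c) (P x a b) := by
    intro x u hx hu a b c
    by_cases hux : u = x
    · obtain ⟨y, hy, hyx⟩ := other x
      subst hux
      rw [← mul_one c, ← hY.bracket u y e (ok_mid hyx.symm hu) (ok_mid hy.2 hy) (ok_mid hu.2 hu)]
      exact (commute_comm (hmid u u y hx hu hy hyx.symm a b c).symm (hcol u y hx hy hyx a b 1).symm).symm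
    · exact hcol x u hx hu hux a b c
  have indep : ∀ x y, x ≠ o ∧ x ≠ e → y ≠ o ∧ y ≠ e → x ≠ y → ∀ a b c, P y (a * c) b = P x a (c * b) := by
    intro x y hx hy hxy a b c
    have eE : ⁅Y x y c, Y y e b⁆ = Y x e (c * b) :=
      hY.bracket x y e (ok_mid hxy hx) (ok_mid hy.2 hy) (ok_mid hx.2 hx) c b
    rw [hP, hP, ← hY.bracket o x y (ok_mid' hx.1.symm hx) (ok_mid hxy hx) (ok_mid' hy.1.symm hy), ← eE]
    refine jacobi (hY.comm _ _ _ _ (ok_mid' hx.1.symm hx) (ok_mid hy.2 hy) hoe hxy a b) ?_ ?_ ?_ ?_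
    · rw [eE]
      exact hY.comm _ _ _ _ (ok_mid hx.2 hx) (ok_mid hxy hx) hxy hx.2.symm _ _
    all_goals rw [eE, ← hP]
    · exact (hrow' x x hx hx _ _ a).symm
    · exact (hmid x x y hx hx hy hxy _ _ c).symm
    · exact (hcol' x x hx hx _ _ _).symm
  have hval : ∀ x, x ≠ o ∧ x ≠ e → ∀ a b, P x a b = P p (a * b) 1 := by
    intro x hx a b
    by_cases hxp : x = p
    · subst hxp
      obtain ⟨y, hy, hyx⟩ := other x
      calc P x a b = P x (a * 1) b := by rw [mul_one]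
        _ = P y a (1 * b) := indep y x hy hx hyx a b 1
        _ = P y a (b * 1) := by rw [one_mul, mul_one]
        _ = _ := (indep y x hy hx hyx a 1 b).symm
    · rw [indep x p hx hp hxp a 1 b, mul_one]
  have hself : ∀ x, x ≠ o ∧ x ≠ e → ∀ a b c d, Commute (P p a b) (P x c d) := fun x hx a b c d => by
    rw [hP x]
    exact commute_comm (hrow' p x hp hx a b c).symm (hcol' p x hp hx a b d).symm
  refine ⟨fun a => P p a 1, fun a b => ?_, fun a b => hself p hp _ _ _ _, ?_, fun x hx a b => ?_,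
    fun v hv a b => ?_, fun u hu a b => ?_⟩
  · show P p (a + b) 1 = P p a 1 * P p b 1
    have e1 : P p (a + b) 1 = (Y o p a * P p b 1 * (Y o p a)⁻¹) * P p a 1 := by
      rw [hP, hP, hP, hY.add o p (ok_mid' hp.1.symm hp)]
      simp only [commutatorElement_def]; group
    rw [e1, (hrow' p p hp hp b 1 a).eq, mul_inv_cancel_right]
    exact (hself p hp b 1 a 1).eq
  · intro k l hok hol hek a b
    by_cases hk : k = o
    · subst hk
      exact (hrow' p l hp ⟨hok.1.symm, fun h => hok.2.1 ⟨rfl, h⟩⟩ a 1 b).symm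
    by_cases hl : l = e
    · subst hl
      exact (hcol' p k hp ⟨hk, hok.1⟩ a 1 b).symm
    exact (hmid p k l hp ⟨hk, hek.symm⟩ ⟨hol.symm, hl⟩ hok.1 a 1 b).symm
  · show _ = P p (a * b) 1
    rw [← hP, hval x hx]
  · obtain ⟨x, hx, hxv⟩ := other v
    have eE : ⁅Y x e 1, Y e v b⁆ = Y x v b := by
      rw [hY.bracket x e v (ok_mid hx.2 hx) (ok_mid' hv.2.symm hv) (ok_mid hxv hx), one_mul]
    have eZ : ⁅Y o x a, Y x v b⁆ = Y o v (a * b) :=
      hY.bracket o x v (ok_mid' hx.1.symm hx) (ok_mid hxv hx) (ok_mid' hv.1.symm hv) a b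
    show ⁅P p a 1, Y e v b⁆ = _
    rw [← mul_one a, ← hval x hx, mul_one, hP, jacobi
      (hY.comm _ _ _ _ (ok_mid' hx.1.symm hx) (ok_mid' hv.2.symm hv) hv.1.symm hx.2 a b) ?_ ?_ ?_ ?_, eE, eZ]
    · rw [eE]
      exact hY.comm _ _ _ _ (ok_mid hxv hx) (ok_mid hx.2 hx) hx.2 hxv.symm _ _
    all_goals rw [eE, eZ]
    · exact hY.comm _ _ _ _ (ok_mid' hv.1.symm hv) (ok_mid' hx.1.symm hx) hx.1.symm hv.1 _ _
    · exact hY.comm _ _ _ _ (ok_mid' hv.1.symm hv) (ok_mid hx.2 hx) hoe hxv.symm _ _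
    · exact hY.comm _ _ _ _ (ok_mid' hv.1.symm hv) (ok_mid hxv hx) hv.1.symm hxv.symm _ _
  · obtain ⟨x, hx, hxu⟩ := other u
    have hux : u ≠ x := hxu.symm
    have eE : ⁅Y o x 1, Y u o b⁆ = Y u x (-b) := by
      rw [← commutatorElement_inv,
        hY.bracket u o x (ok_mid hu.1 hu) (ok_mid' hx.1.symm hx) (ok_mid hux hu), mul_one,
        Y_inv hY (ok_mid hux hu)]
    have eZ : ⁅Y x e a, Y u x (-b)⁆ = Y u e (b * a) := by
      rw [← commutatorElement_inv,
        hY.bracket u x e (ok_mid hux hu) (ok_mid hx.2 hx) (ok_mid hu.2 hu),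
        Y_inv hY (ok_mid hu.2 hu)]
      simp
    have hJ : ⁅⁅Y x e a, Y o x 1⁆, Y u o b⁆ = Y u e (b * a) := by
      rw [jacobi (hY.comm _ _ _ _ (ok_mid hx.2 hx) (ok_mid hu.1 hu) hx.1 hu.2.symm a b) ?_ ?_ ?_ ?_, eE, eZ]
      · rw [eE]
        exact hY.comm _ _ _ _ (ok_mid hux hu) (ok_mid' hx.1.symm hx) hux hx.1 _ _
      all_goals rw [eE, eZ]
      · exact hY.comm _ _ _ _ (ok_mid hu.2 hu) (ok_mid hx.2 hx) hu.2 hx.2.symm _ _
      · exact hY.comm _ _ _ _ (ok_mid hu.2 hu) (ok_mid' hx.1.symm hx) hux hoe.symm _ _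
      · exact hY.comm _ _ _ _ (ok_mid hu.2 hu) (ok_mid hux hu) hux hu.2.symm _ _
    show ⁅Y u o b, P p a 1⁆ = _
    rw [show P p a 1 = P x 1 a by rw [hval x hx, one_mul]]
    rw [← commutatorElement_inv (Y o x 1), ← hP] at hJ
    have hc : Commute (Y u e (b * a)) (P x 1 a) := hcol' x u hx hu 1 a _
    calc ⁅Y u o b, P x 1 a⁆ = P x 1 a * ⁅(P x 1 a)⁻¹, Y u o b⁆ * (P x 1 a)⁻¹ := by
          simp only [commutatorElement_def]; group
      _ = _ := by rw [hJ, ← hc.eq, mul_inv_cancel_right]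

/-- The relations extend to the outer pair. -/
theorem exists_full [DecidableEq n] (hoe : o ≠ e) {p q : n} (hp : p ≠ o ∧ p ≠ e) (hq : q ≠ o ∧ q ≠ e)
    (hpq : p ≠ q) : ∃ Y' : n → n → F → G, (∀ i j, Ok o e i j → Y' i j = Y i j) ∧
      Rels Y' fun i j => i ≠ j := by
  obtain ⟨Z, zadd, zself, zcomm, zdef, zr, zl⟩ := exists_root hY hoe hp hq hpq
  obtain ⟨W, wadd, wself, wcomm, wdef, wr, wl⟩ :=
    exists_root (Y := Y) (o := e) (e := o) (by rwa [ok_swap]) hoe.symm hp.symm hq.symm hpq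
  rw [ok_swap] at wcomm
  refine ⟨fun i j => if i = o ∧ j = e then Z else if i = e ∧ j = o then W else Y i j,
    fun i j h => by simp only [if_neg h.2.1, if_neg h.2.2], ⟨?_, ?_, ?_⟩⟩
  · intro i j hij a b
    split_ifs with h1 h2
    · exact zadd a b
    · exact wadd a b
    · exact hY.add i j ⟨hij, h1, h2⟩ a b
  · intro i j k l hij hkl hil hjk a b
    split_ifs with h1 h2 h3 h4 h5 h6 h7 h8
    all_goals first
      | exact zself a b
      | exact wself a b
      | exact absurd (h1.1.trans h3.2.symm) hil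
      | exact absurd (h1.2.trans h3.1.symm) hjk
      | skip
    all_goals first
      | exact hY.comm i j k l ⟨hij, by assumption, by assumption⟩ ⟨hkl, by assumption, by assumption⟩ hil hjk a b
      | exact zcomm k l ⟨hkl, by assumption, by assumption⟩ (h1.1 ▸ hil) (h1.2 ▸ hjk) a b
      | exact wcomm k l ⟨hkl, by assumption, by assumption⟩ (h3.1 ▸ hil) (h3.2 ▸ hjk) a b
      | exact wcomm k l ⟨hkl, by assumption, by assumption⟩ (h4.1 ▸ hil) (h4.2 ▸ hjk) a b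
      | exact (zcomm i j ⟨hij, by assumption, by assumption⟩ (by rintro rfl; simp_all) (by rintro rfl; simp_all) b a).symm
      | exact (wcomm i j ⟨hij, by assumption, by assumption⟩ (by rintro rfl; simp_all) (by rintro rfl; simp_all) b a).symm
      | simp_all
  · intro i j k hij hjk hik a b
    have mid : ∀ x : n, x ≠ o → x ≠ e → x ≠ o ∧ x ≠ e := fun x a b => ⟨a, b⟩
    by_cases h1 : i = o ∧ j = e
    · obtain ⟨rfl, rfl⟩ := h1
      rw [if_pos ⟨rfl, rfl⟩, if_neg (fun h => hoe h.1.symm), if_neg (fun h => hik h.2.symm),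
        if_neg (fun h => hjk h.2.symm), if_neg (fun h => hoe h.1)]
      exact zr k ⟨hik.symm, hjk.symm⟩ a b
    by_cases h2 : i = e ∧ j = o
    · obtain ⟨rfl, rfl⟩ := h2
      rw [if_neg h1, if_pos ⟨rfl, rfl⟩, if_neg (fun h => hik h.2.symm), if_neg (fun h => hjk h.2.symm),
        if_neg (fun h => hij h.1), if_neg (fun h => hjk h.2.symm)]
      exact wr k ⟨hik.symm, hjk.symm⟩ a b
    rw [if_neg h1, if_neg h2]
    by_cases h3 : j = o ∧ k = e
    · obtain ⟨rfl, rfl⟩ := h3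
      rw [if_pos ⟨rfl, rfl⟩, if_neg (fun h => hij h.1), if_neg (fun h => hik h.1)]
      exact zl i ⟨hij, hik⟩ b a
    by_cases h4 : j = e ∧ k = o
    · obtain ⟨rfl, rfl⟩ := h4
      rw [if_neg h3, if_pos ⟨rfl, rfl⟩, if_neg (fun h => hik h.1), if_neg (fun h => hij h.1)]
      exact wl i ⟨hij, hik⟩ b a
    rw [if_neg h3, if_neg h4]
    by_cases h5 : i = o ∧ k = e
    · obtain ⟨rfl, rfl⟩ := h5
      rw [if_pos ⟨rfl, rfl⟩]
      exact zdef j ⟨hij.symm, hjk⟩ a b
    by_cases h6 : i = e ∧ k = o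
    · obtain ⟨rfl, rfl⟩ := h6
      rw [if_neg h5, if_pos ⟨rfl, rfl⟩]
      exact wdef j ⟨hij.symm, hjk⟩ a b
    rw [if_neg h5, if_neg h6]
    exact hY.bracket i j k ⟨hij, h1, h2⟩ ⟨hjk, h3, h4⟩ ⟨hik, h5, h6⟩ a b

omit hY

/-- A full system gives a homomorphism. -/
theorem exists_hom [Fintype n] [DecidableEq n] [Finite F] (h3 : 3 ≤ Fintype.card n) {Y : n → n → F → G}
    (hY : Rels Y fun i j => i ≠ j) :
    ∃ f : SpecialLinearGroup n F →* G, ∀ i j, i ≠ j → ∀ a, f (T i j a) = Y i j a := by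
  classical
  let Γ : Subgroup (SpecialLinearGroup n F × G) :=
    Subgroup.closure {g | ∃ i j, i ≠ j ∧ ∃ a, g = (T i j a, Y i j a)}
  let X : n → n → F → Γ := fun i j a => if h : i ≠ j then
    ⟨(T i j a, Y i j a), Subgroup.subset_closure ⟨i, j, h, a, rfl⟩⟩ else 1
  have hXv : ∀ {i j : n} (h : i ≠ j) (a : F), (X i j a : SpecialLinearGroup n F × G) = (T i j a, Y i j a) :=
    fun h a => by simp only [X, dif_pos h]
  let σ : Γ →* SpecialLinearGroup n F := (MonoidHom.fst _ _).comp Γ.subtype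
  have hX : IsSystem σ X := by
    refine ⟨fun i j h a => congrArg Prod.fst (hXv h a), fun i j h a b => Subtype.ext ?_,
      fun i j k l hij hkl hil hjk a b => Subtype.ext ?_, fun i j k hij hjk hik a b => Subtype.ext ?_⟩
    · rw [Subgroup.coe_mul, hXv h, hXv h, hXv h]
      exact Prod.ext (T_add h a b) (hY.add i j h a b)
    · rw [Subgroup.coe_mul, Subgroup.coe_mul, hXv hij, hXv hkl]
      exact Prod.ext (T_comm hij hkl hil hjk a b) (hY.comm i j k l hij hkl hil hjk a b)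
    · rw [hXv hik, commutatorElement_def, Subgroup.coe_mul, Subgroup.coe_mul, Subgroup.coe_mul,
        Subgroup.coe_inv, Subgroup.coe_inv, hXv hij, hXv hjk]
      exact Prod.ext (T_bracket hik hij hjk a b) (hY.bracket i j k hij hjk hik a b)
  have hgen : blockLift X (Set.univ : Set n) = ⊤ := by
    refine Subgroup.map_injective Γ.subtype_injective ?_
    rw [← MonoidHom.range_eq_map, Subgroup.range_subtype, blockLift, MonoidHom.map_closure]
    show _ = Subgroup.closure _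
    congr 1
    ext g
    constructor
    · rintro ⟨_, ⟨i, j, -, -, hij, a, rfl⟩, rfl⟩
      exact ⟨i, j, hij, a, hXv hij a⟩
    · rintro ⟨i, j, hij, a, rfl⟩
      exact ⟨_, ⟨i, j, trivial, trivial, hij, a, rfl⟩, hXv hij a⟩
  have hinj := Many.injective hX h3 hgen
  have hsurj : Function.Surjective σ := by
    rw [← MonoidHom.range_eq_top]
    exact Classical.Linear.eq_top_of_transvection_mem _ fun i j hij c =>
      ⟨X i j c, by rw [hX.lift i j hij, T_eq hij]⟩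
  refine ⟨((MonoidHom.snd _ _).comp Γ.subtype).comp (MulEquiv.ofBijective σ ⟨hinj, hsurj⟩).symm.toMonoidHom,
    fun i j hij a => ?_⟩
  have e : (MulEquiv.ofBijective σ ⟨hinj, hsurj⟩).symm (T i j a) = X i j a :=
    (MulEquiv.ofBijective σ ⟨hinj, hsurj⟩).injective (by
      rw [MulEquiv.apply_symm_apply]; exact (hX.lift i j hij a).symm)
  show ((((MulEquiv.ofBijective σ ⟨hinj, hsurj⟩).symm (T i j a) : Γ)) : SpecialLinearGroup n F × G).2 = _
  rw [e, hXv hij]

end Cfsg.Agent.SteinbergSL.Outer
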