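import Cfsg.Agent.Lib.SteinbergSL.Two
import Cfsg.Agent.SimpleFacts.SLnCosets
import Mathlib

/-!
Steinberg's relations for `SL_n`, `n ≥ 3`, over a finite field present the group: Weyl words conjugate by the
relations alone and the rank-one blocks satisfy the rank-one relations.
-/

set_option autoImplicit false

namespace Cfsg.Agent.SteinbergSL.Many

open Matrix Cfsg.Agent.SimpleFacts.SLnRootLifts Cfsg.Agent.SimpleFacts.SLnSystem
  Cfsg.Agent.SimpleFacts.SLnCosets
open scoped commutatorElement

universe u v w

variable {n : Type u} [Fintype n] [DecidableEq n] {F : Type v} [Field F] {Γ : Type w} [Group Γ]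
  {σ : Γ →* SpecialLinearGroup n F} {X : n → n → F → Γ}

theorem monomial_unique {g : SpecialLinearGroup n F} {π π' : Equiv.Perm n} {d d' : n → F}
    (h : IsMonomial g π d) (h' : IsMonomial g π' d') : π = π' ∧ d = d' := by
  have hπ : π = π' := by
    refine Equiv.ext fun j => ?_
    by_contra hne
    have e := h.2 (π j) j
    rw [h'.2, if_neg hne, if_pos rfl] at e
    exact h.1 j e.symm
  subst hπ
  refine ⟨rfl, funext fun j => ?_⟩
  have e := h.2 (π j) j
  rw [h'.2, if_pos rfl, if_pos rfl] at e
  exact e.symm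

theorem monomial_mul {g g' : SpecialLinearGroup n F} {π π' : Equiv.Perm n} {d d' : n → F}
    (h : IsMonomial g π d) (h' : IsMonomial g' π' d') :
    IsMonomial (g * g') (π * π') fun k => d (π' k) * d' k := by
  refine ⟨fun k => mul_ne_zero (h.1 _) (h'.1 _), fun i j => ?_⟩
  rw [Matrix.SpecialLinearGroup.coe_mul, Matrix.mul_apply, Finset.sum_eq_single (π' j)]
  · rw [h.2, h'.2, if_pos rfl, ite_mul, zero_mul]
    simp only [Equiv.Perm.mul_apply]
    split_ifs with h0 <;> simp [h0]
  · intro k _ hk
    rw [h'.2, if_neg hk, mul_zero]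
  · simp

/-- Conjugation by `g` agrees with that by its image. -/
def Good (σ : Γ →* SpecialLinearGroup n F) (X : n → n → F → Γ) (g : Γ) : Prop :=
  ∀ (π : Equiv.Perm n) (d : n → F), IsMonomial (σ g) π d → ∀ i j : n, i ≠ j → ∀ a : F,
    g * X i j a * g⁻¹ = X (π i) (π j) (d i / d j * a)

theorem good_mul {g g' : Γ} {π π' : Equiv.Perm n} {d d' : n → F} (hg : Good σ X g) (hg' : Good σ X g')
    (h : IsMonomial (σ g) π d) (h' : IsMonomial (σ g') π' d') : Good σ X (g * g') := by
  intro π₂ d₂ h₂ i j hij a
  obtain ⟨rfl, rfl⟩ := monomial_unique h₂ (map_mul σ g g' ▸ monomial_mul h h')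
  rw [show g * g' * X i j a * (g * g')⁻¹ = g * (g' * X i j a * g'⁻¹) * g⁻¹ by group,
    hg' π' d' h' i j hij, hg π d h _ _ (π'.injective.ne hij)]
  congr 1
  have := h.1 (π' j); have := h'.1 j
  field_simp

variable (hX : IsSystem σ X) (h3 : 3 ≤ Fintype.card n)
include hX

theorem good_w (h3 : 3 ≤ Fintype.card n) {i j : n} (hij : i ≠ j) {u : F} (hu : u ≠ 0) :
    Good σ X (wWord X i j u) := by
  intro π d hm
  obtain ⟨rfl, rfl⟩ := monomial_unique hm (w_monomial hX hij hu)
  set c := -u⁻¹ with hc
  have huc : u * c = -1 := by rw [hc]; field_simp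
  have hw : ∀ y, wWord X i j u * y * (wWord X i j u)⁻¹ =
      X i j u * (X j i c * (X i j u * y * (X i j u)⁻¹) * (X j i c)⁻¹) * (X i j u)⁻¹ := fun y => by
    rw [wWord, ← hc]; group
  have hcj : ∀ (g a b : Γ), g * (a * b) * g⁻¹ = (g * a * g⁻¹) * (g * b * g⁻¹) := fun g a b => by group
  have fixd : ∀ {i j k l : n}, i ≠ j → k ≠ l → i ≠ l → j ≠ k → ∀ a b : F,
      X i j a * X k l b * (X i j a)⁻¹ = X k l b := fun h1 h2 h3 h4 a b => by
    rw [(hX.comm _ _ _ _ h1 h2 h3 h4 a b).eq, mul_inv_cancel_right]
  -- a root moved down a column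
  have colm : ∀ {i j l : n}, i ≠ j → j ≠ l → i ≠ l → ∀ a b : F,
      X i j a * X j l b * (X i j a)⁻¹ = X i l (a * b) * X j l b := fun h1 h2 h3 a b => by
    rw [← hX.bracket _ _ _ h1 h2 h3, commutatorElement_def]; group
  -- a root moved along a row
  have rowm : ∀ {i j k : n}, i ≠ j → k ≠ i → k ≠ j → ∀ a b : F,
      X i j a * X k i b * (X i j a)⁻¹ = X k j (-(b * a)) * X k i b := fun h1 h2 h3 a b => by
    rw [← X_inv hX h3, ← hX.bracket _ _ _ h2 h1 h3, commutatorElement_def]; group
  have off : ∀ k l : n, k ≠ l → (k ≠ i ∧ k ≠ j ∨ l ≠ i ∧ l ≠ j) → ∀ a : F,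
      wWord X i j u * X k l a * (wWord X i j u)⁻¹ = X (Equiv.swap i j k) (Equiv.swap i j l)
        ((fun k => if k = j then u else if k = i then -u⁻¹ else 1) k /
          (fun k => if k = j then u else if k = i then -u⁻¹ else 1) l * a) := by
    intro k l hkl hcase a
    rcases hcase with ⟨hki, hkj⟩ | ⟨hli, hlj⟩
    · by_cases hli : l = i
      · subst hli
        have hcomm : Commute (X k l a) (X k j (-(a * u))) := hX.comm _ _ _ _ hki hkj hkj hki.symm _ _
        rw [hw, rowm hij hki hkj, hcj (X j l c), rowm hij.symm hkj hki, fixd hij.symm hki hij.symm hki.symm,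
          show -(-(a * u) * c) = -a by rw [neg_mul, neg_neg, mul_assoc, huc]; ring,
          mul_assoc (X k l (-a)), ← hcomm.eq, ← mul_assoc (X k l (-a)), ← hX.add k l hki, neg_add_cancel, X_zero hX hki, one_mul,
          fixd hij hkj hij (Ne.symm hkj) u, Equiv.swap_apply_of_ne_of_ne hki hkj, Equiv.swap_apply_left]
        congr 1
        simp [hki, hkj, hij]
        ring
      · by_cases hlj : l = j
        · subst hlj
          have hcomm : Commute (X k l a) (X k i (-(a * c))) := hX.comm _ _ _ _ hkj hki hki hkj.symm _ _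
          rw [hw, fixd hij hkj hij (Ne.symm hkj) u, rowm hij.symm hkj hki, hcj (X i l u), rowm hij hki hkj,
            fixd hij hkj hij (Ne.symm hkj) u, show -(-(a * c) * u) = -a by rw [neg_mul, neg_neg, mul_assoc, mul_comm c, huc]; ring,
            mul_assoc (X k l (-a)), ← hcomm.eq, ← mul_assoc (X k l (-a)), ← hX.add k l hkj, neg_add_cancel, X_zero hX hkj, one_mul,
            Equiv.swap_apply_of_ne_of_ne hki hkj, Equiv.swap_apply_right]
          congr 1
          simp [hki, hkj, hc]
          ring
        · rw [hw, fixd hij hkl (Ne.symm hli) (Ne.symm hkj) u, fixd hij.symm hkl (Ne.symm hlj) (Ne.symm hki) c,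
            fixd hij hkl (Ne.symm hli) (Ne.symm hkj) u, Equiv.swap_apply_of_ne_of_ne hki hkj,
            Equiv.swap_apply_of_ne_of_ne hli hlj]
          simp [hki, hkj, hli, hlj]
    · by_cases hki : k = i
      · subst hki
        have hil : k ≠ l := hkl
        have hjl : j ≠ l := Ne.symm hlj
        have hcomm : Commute (X k l a) (X j l (c * a)) := hX.comm _ _ _ _ hil hjl hil hlj _ _
        rw [hw, fixd hij hkl hil hij.symm u, colm hij.symm hil hjl, hcj (X k j u), colm hij hjl hil,
          fixd hij hkl hil hij.symm u, show u * (c * a) = -a by rw [← mul_assoc, huc]; ring,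
          mul_assoc (X k l (-a)), ← hcomm.eq, ← mul_assoc (X k l (-a)), ← hX.add k l hil, neg_add_cancel, X_zero hX hil, one_mul,
          Equiv.swap_apply_left, Equiv.swap_apply_of_ne_of_ne hli hlj]
        congr 1
        simp [hli, hlj, hij, hc]
      · by_cases hkj : k = j
        · subst hkj
          have hil : i ≠ l := Ne.symm hli
          have hcomm : Commute (X k l a) (X i l (u * a)) := hX.comm _ _ _ _ hkl hil hkl hli _ _
          rw [hw, colm hij hkl hil, hcj (X k i c), colm hij.symm hil hkl, fixd hij.symm hkl hkl hij c,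
            show c * (u * a) = -a by rw [← mul_assoc, mul_comm c, huc]; ring,
            mul_assoc (X k l (-a)), ← hcomm.eq, ← mul_assoc (X k l (-a)), ← hX.add k l hkl, neg_add_cancel, X_zero hX hkl, one_mul,
            fixd hij hil hil hij.symm u, Equiv.swap_apply_right, Equiv.swap_apply_of_ne_of_ne hli hlj]
          congr 1
          simp [hli, hlj]
        · rw [hw, fixd hij hkl (Ne.symm hli) (Ne.symm hkj) u, fixd hij.symm hkl (Ne.symm hlj) (Ne.symm hki) c,
            fixd hij hkl (Ne.symm hli) (Ne.symm hkj) u, Equiv.swap_apply_of_ne_of_ne hki hkj,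
            Equiv.swap_apply_of_ne_of_ne hli hlj]
          simp [hki, hkj, hli, hlj]
  intro k l hkl a
  by_cases hcase : k ≠ i ∧ k ≠ j ∨ l ≠ i ∧ l ≠ j
  · exact off k l hkl hcase a
  -- both indices moved: pass through a third one
  obtain ⟨m, hmi, hmj⟩ := exists_mid i j h3
  push Not at hcase
  have hmk : m ≠ k := by
    rintro rfl; exact hmj (hcase.1 hmi)
  have hml : m ≠ l := by
    rintro rfl; exact hmj (hcase.2 hmi)
  have e : X k l a = ⁅X k m a, X m l 1⁆ := by rw [hX.bracket k m l hmk.symm hml hkl, mul_one]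
  rw [e, show ∀ g x y : Γ, g * ⁅x, y⁆ * g⁻¹ = ⁅g * x * g⁻¹, g * y * g⁻¹⁆ from fun g x y => by
      simp only [commutatorElement_def]; group,
    off k m hmk.symm (Or.inr ⟨hmi, hmj⟩), off m l hml (Or.inl ⟨hmi, hmj⟩)]
  have hne : ∀ {x y : n}, x ≠ y → Equiv.swap i j x ≠ Equiv.swap i j y := fun h => (Equiv.injective _).ne h
  rw [hX.bracket _ _ _ (hne hmk.symm) (hne hml) (hne hkl)]
  congr 1
  simp only [hmi, hmj, if_false]
  ring

include h3

theorem conjWords : ConjWords σ X := by
  rintro g ⟨i, j, u, hij, hu, rfl | rfl⟩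
  · exact good_w hX h3 hij hu
  · rw [hWord]
    exact good_mul (good_w hX h3 hij hu) (good_w hX h3 hij (neg_ne_zero.2 one_ne_zero))
      (w_monomial hX hij hu) (w_monomial hX hij (neg_ne_zero.2 one_ne_zero))

theorem two_inj [Finite F] {a b : n} (hab : a ≠ b) {y : Γ} (hy : y ∈ blockLift X {a, b}) (h1 : σ y = 1) :
    y = 1 := by
  classical
  set B := blockLift X {a, b} with hB
  have hrange : Set.range (pair hab) = {a, b} := range_pair hab
  let π : B →* (blockHom (R := F) (pair hab)).range := (σ.comp B.subtype).codRestrict _ fun z => by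
    rw [← map_blockLift hX (pair hab), hrange]
    exact Subgroup.mem_map_of_mem σ z.2
  let τ : B →* SpecialLinearGroup (Fin 2) F :=
    (MonoidHom.ofInjective (blockHom_injective (R := F) (pair hab))).symm.toMonoidHom.comp π
  have hτ : ∀ z : B, blockHom (R := F) (pair hab) (τ z) = σ z.1 := fun z =>
    congrArg Subtype.val ((MonoidHom.ofInjective (blockHom_injective (R := F) (pair hab))).apply_symm_apply (π z))
  let x : Bool → F → B := fun o t => cond o
    ⟨X a b t, X_mem_blockLift (by simp) (by simp) hab t⟩ ⟨X b a t, X_mem_blockLift (by simp) (by simp) hab.symm t⟩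
  have hx : Two.Rels x := by
    refine ⟨fun o t u => Subtype.ext ?_, fun o t u ht => Subtype.ext ?_⟩
    · cases o
      · exact hX.add b a hab.symm t u
      · exact hX.add a b hab t u
    · cases o
      · have h := good_w hX h3 hab.symm ht _ _ (w_monomial hX hab.symm ht) b a hab.symm u
        simp only [Equiv.swap_apply_left, Equiv.swap_apply_right, if_true, hab.symm, if_false] at h
        simp only [Two.w, x, Bool.not_false, cond_false, cond_true, Subgroup.coe_mul, Subgroup.coe_inv]
        rw [← show wWord X b a t = X b a t * X a b (-t⁻¹) * X b a t from rfl, h]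
        congr 1
        field_simp
      · have h := good_w hX h3 hab ht _ _ (w_monomial hX hab ht) a b hab u
        simp only [Equiv.swap_apply_left, Equiv.swap_apply_right, if_true, hab, if_false] at h
        simp only [Two.w, x, Bool.not_true, cond_false, cond_true, Subgroup.coe_mul, Subgroup.coe_inv]
        rw [← show wWord X a b t = X a b t * X b a (-t⁻¹) * X a b t from rfl, h]
        congr 1
        field_simp
  have hgen : Subgroup.closure (Set.range fun p : Bool × F => x p.1 p.2) = ⊤ := by
    refine Subgroup.map_injective B.subtype_injective ?_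
    rw [← MonoidHom.range_eq_map, Subgroup.range_subtype, MonoidHom.map_closure]
    change _ = blockLift X {a, b}
    unfold blockLift
    congr 1
    ext g
    constructor
    · rintro ⟨_, ⟨⟨o, t⟩, rfl⟩, rfl⟩
      cases o
      · exact ⟨b, a, Or.inr rfl, Or.inl rfl, hab.symm, t, rfl⟩
      · exact ⟨a, b, Or.inl rfl, Or.inr rfl, hab, t, rfl⟩
    · rintro ⟨k, l, hk, hl, hkl, t, rfl⟩
      rcases hk with rfl | hk
      · obtain rfl : l = b := hl.resolve_left (Ne.symm hkl)
        exact ⟨_, ⟨(true, t), rfl⟩, rfl⟩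
      · obtain rfl : k = b := hk
        obtain rfl : l = a := hl.resolve_right (Ne.symm hkl)
        exact ⟨_, ⟨(false, t), rfl⟩, rfl⟩
  have hval : ∀ (o : Bool) (t : F), τ (x o t) = cond o (T 0 1 t) (T 1 0 t) := fun o t => by
    apply blockHom_injective (R := F) (pair hab)
    rw [hτ]
    cases o
    · exact (hX.lift b a hab.symm t).trans (blockHom_T (pair hab) (show (1 : Fin 2) ≠ 0 by decide) t).symm
    · exact (hX.lift a b hab t).trans (blockHom_T (pair hab) (show (0 : Fin 2) ≠ 1 by decide) t).symm
  have hinj : Function.Injective τ := Two.injective hx hgen τ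
    (fun t => by
      rw [hval, cond_true, T_coe (by decide)]
      ext i j; fin_cases i <;> fin_cases j <;> simp [Matrix.transvection])
    (fun t => by
      rw [hval, cond_false, T_coe (by decide)]
      ext i j; fin_cases i <;> fin_cases j <;> simp [Matrix.transvection])
  have : (⟨y, hy⟩ : B) = 1 := hinj (blockHom_injective (R := F) (pair hab) (by rw [hτ, map_one, map_one]; exact h1))
  exact congrArg Subtype.val this

/-- The lifts generate an isomorphic copy. -/
theorem injective [Finite F] (hgen : blockLift X (Set.univ : Set n) = ⊤) : Function.Injective σ := by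
  rw [← MonoidHom.ker_eq_bot_iff, eq_bot_iff]
  intro z hz
  exact block_inj hX (conjWords hX h3) h3 (fun a b hab y hy h => two_inj hX h3 hab hy h) Finset.univ z
    (by rw [Finset.coe_univ, hgen]; exact Subgroup.mem_top _) hz

end Cfsg.Agent.SteinbergSL.Many
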