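import Mathlib

/-!
The rank-one Steinberg relations over a finite field present `SL₂`: the torus word is multiplicative, so
every element has a Bruhat normal form.
-/

set_option autoImplicit false

namespace Cfsg.Agent.SteinbergSL.Two

variable {F : Type*} [Field F] {G : Type*} [Group G] (x : Bool → F → G)

/-- Weyl word. -/
def w (b : Bool) (t : F) : G := x b t * x (!b) (-t⁻¹) * x b t

/-- The relations. -/
structure Rels : Prop where
  add : ∀ b t u, x b (t + u) = x b t * x b u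
  conj : ∀ b t u, t ≠ 0 → w x b t * x b u * (w x b t)⁻¹ = x (!b) (-(t⁻¹ ^ 2 * u))

variable {x} (hx : Rels x)
include hx

theorem x_zero (b : Bool) : x b 0 = 1 := by
  have h := hx.add b 0 0
  rwa [add_zero, left_eq_mul] at h

theorem x_inv (b : Bool) (t : F) : (x b t)⁻¹ = x b (-t) :=
  inv_eq_of_mul_eq_one_right (by rw [← hx.add, add_neg_cancel, x_zero hx])

theorem w_inv (b : Bool) (t : F) : (w x b t)⁻¹ = w x b (-t) := by
  simp only [w, _root_.mul_inv_rev, x_inv hx, mul_assoc, inv_neg, neg_neg]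

theorem conj_opp (b : Bool) {t : F} (ht : t ≠ 0) (u : F) :
    w x b t * x (!b) u * (w x b t)⁻¹ = x b (-(t ^ 2 * u)) := by
  have h := hx.conj b (-t) (-(t ^ 2 * u)) (neg_ne_zero.2 ht)
  rw [← w_inv hx, inv_inv] at h
  have e : (-t)⁻¹ ^ 2 * -(t ^ 2 * u) = -u := by field_simp
  rw [e, neg_neg] at h
  rw [← h]
  group

theorem w_swap (b : Bool) {t : F} (ht : t ≠ 0) : w x b t = w x (!b) (-t⁻¹) := by
  have e1 : t⁻¹ ^ 2 * t = t⁻¹ := by field_simp
  have e2 : t ^ 2 * -t⁻¹ = -t := by field_simp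
  calc w x b t = w x b t * (x b t * x (!b) (-t⁻¹) * x b t) * (w x b t)⁻¹ := by
        change w x b t = w x b t * w x b t * (w x b t)⁻¹; group
    _ = (w x b t * x b t * (w x b t)⁻¹) * (w x b t * x (!b) (-t⁻¹) * (w x b t)⁻¹) *
        (w x b t * x b t * (w x b t)⁻¹) := by group
    _ = _ := by
      rw [hx.conj b t t ht, conj_opp hx b ht, e1, e2, neg_neg]
      simp [w]

theorem conj_w (b : Bool) {u v : F} (hu : u ≠ 0) (hv : v ≠ 0) :
    w x b u * w x b v * (w x b u)⁻¹ = w x b (u ^ 2 / v) := by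
  rw [w_swap hx b (div_ne_zero (pow_ne_zero 2 hu) hv)]
  calc w x b u * w x b v * (w x b u)⁻¹
      = (w x b u * x b v * (w x b u)⁻¹) * (w x b u * x (!b) (-v⁻¹) * (w x b u)⁻¹) *
        (w x b u * x b v * (w x b u)⁻¹) := by simp only [w]; group
    _ = _ := by
      rw [hx.conj b u v hu, conj_opp hx b hu]
      simp only [w, Bool.not_not]
      congr 3 <;> field_simp

theorem sq_commute (b : Bool) {u v : F} (hu : u ≠ 0) (hv : v ≠ 0) :
    Commute (w x b u * w x b u) (w x b v) := by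
  have h1 := conj_w hx b hu (div_ne_zero (pow_ne_zero 2 hu) hv)
  rw [← conj_w hx b hu hv, show u ^ 2 / (u ^ 2 / v) = v by field_simp] at h1
  rw [Commute, SemiconjBy]
  nth_rw 2 [← h1]
  group

/-- The relation from additivity. -/
theorem triple (b : Bool) {u v : F} (hu : u ≠ 0) (hv : v ≠ 0) (hs : u + v ≠ 0) :
    w x b (u * v / (u + v)) = w x b u * (w x b (u + v))⁻¹ * w x b v := by
  set s := u + v with hsdef
  set t := u * v / s with htdef
  have ht : t ≠ 0 := div_ne_zero (mul_ne_zero hu hv) hs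
  have hopp : ∀ z : F, x (!b) (-z⁻¹) = x b (-z) * w x b z * x b (-z) := fun z => by
    simp only [w, ← x_inv hx]; group
  have hmove : ∀ z : F, z ≠ 0 → ∀ c : F, w x b z * x (!b) c = x b (-(z ^ 2 * c)) * w x b z := fun z hz c => by
    rw [← conj_opp hx b hz c]; group
  have hmove' : ∀ z : F, z ≠ 0 → ∀ c : F, x (!b) c * w x b z = w x b z * x b (-(z ^ 2 * c)) := fun z hz c => by
    have h := conj_opp hx b (neg_ne_zero.2 hz) c
    rw [← w_inv hx, inv_inv, neg_sq] at h
    rw [← h]; group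
  have hsw : x b (-s) = x (!b) (-s⁻¹) * w x b (-s) * x (!b) (-s⁻¹) := by
    rw [w_swap hx b (neg_ne_zero.2 hs), inv_neg, neg_neg]
    simp only [w, Bool.not_not, ← x_inv hx]; group
  have hadd : x (!b) (-t⁻¹) = x (!b) (-u⁻¹) * x (!b) (-v⁻¹) := by
    rw [← hx.add]
    congr 1
    rw [htdef, hsdef]
    field_simp
    ring
  rw [hopp, hopp, hopp] at hadd
  have hmid : x b (-u) * w x b u * x b (-u) * (x b (-v) * w x b v * x b (-v)) =
      x b (-u) * (w x b u * x b (-s)) * (w x b v * x b (-v)) := by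
    rw [show (-s : F) = -u + -v by rw [hsdef]; ring, hx.add]
    simp only [mul_assoc]
  rw [hmid, hsw] at hadd
  have e : x b (-u) * (w x b u * (x (!b) (-s⁻¹) * w x b (-s) * x (!b) (-s⁻¹))) * (w x b v * x b (-v)) =
      x b (-u) * x b (-(u ^ 2 * -s⁻¹)) * (w x b u * w x b (-s) * w x b v) *
        (x b (-(v ^ 2 * -s⁻¹)) * x b (-v)) := by
    rw [show x b (-u) * (w x b u * (x (!b) (-s⁻¹) * w x b (-s) * x (!b) (-s⁻¹))) * (w x b v * x b (-v)) =
      x b (-u) * (w x b u * x (!b) (-s⁻¹)) * w x b (-s) * (x (!b) (-s⁻¹) * w x b v) * x b (-v) by group,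
      hmove u hu, hmove' v hv]
    group
  have e1 : -u + -(u ^ 2 * -s⁻¹) = -t := by
    rw [htdef]; field_simp; rw [hsdef]; ring
  have e2 : -(v ^ 2 * -s⁻¹) + -v = -t := by
    rw [htdef]; field_simp; rw [hsdef]; ring
  rw [e, ← hx.add, ← hx.add, e1, e2] at hadd
  rw [w_inv hx]
  exact mul_left_cancel (mul_right_cancel hadd)

section finite

variable [Finite F] (b : Bool)

theorem exists_hom : ∃ h : Fˣ →* G, ∀ t : Fˣ, h t * w x b 1 = w x b (t : F) := by
  obtain ⟨g, hg⟩ := IsCyclic.exists_generator (α := Fˣ)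
  have hpow : ∀ t : Fˣ, ∃ k : ℕ, g ^ k = t := fun t => mem_powers_iff_mem_zpowers.2 (hg t)
  set r : ℕ → G := fun k => w x b ((g : F) ^ k) with hr
  have hne : ∀ k : ℕ, (g : F) ^ k ≠ 0 := fun k => pow_ne_zero k g.ne_zero
  have hrec : ∀ k, r (k + 2) = r (k + 1) * r k * (r (k + 1))⁻¹ := fun k => by
    simp only [hr]
    rw [conj_w hx b (hne _) (hne _)]
    congr 1
    field_simp
    ring
  have hsq : ∀ k l, Commute (r k * r k) (r l) := fun k l => sq_commute hx b (hne k) (hne l)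
  have hd : ∀ k, r (k + 2) * (r k)⁻¹ = r 2 * (r 0)⁻¹ := by
    intro k
    induction k with
    | zero => rfl
    | succ k ih =>
      rw [← ih, hrec (k + 1), show k + 1 + 1 = k + 2 from rfl, hrec k]
      calc r (k + 1) * r k * (r (k + 1))⁻¹ * r (k + 1) * (r (k + 1) * r k * (r (k + 1))⁻¹)⁻¹ * (r (k + 1))⁻¹
          = r (k + 1) * r k * r (k + 1) * ((r k)⁻¹ * (r (k + 1) * r (k + 1))⁻¹) := by group
        _ = r (k + 1) * r k * r (k + 1) * ((r (k + 1) * r (k + 1))⁻¹ * (r k)⁻¹) := by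
          rw [((hsq (k + 1) k).inv_left.inv_right).eq]
        _ = _ := by group
  set d := r 2 * (r 0)⁻¹ with hd_def
  have heven : ∀ m, r (2 * m) = d ^ m * r 0 := by
    intro m
    induction m with
    | zero => simp
    | succ m ih => rw [show 2 * (m + 1) = 2 * m + 2 from rfl, ← mul_inv_eq_iff_eq_mul.1 (hd (2 * m)) |>.symm,
        ih, ← mul_assoc, ← pow_succ']
  have hodd : ∀ m, r (2 * m + 1) = d ^ m * r 1 := by
    intro m
    induction m with
    | zero => simp
    | succ m ih => rw [show 2 * (m + 1) + 1 = (2 * m + 1) + 2 by ring,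
        ← mul_inv_eq_iff_eq_mul.1 (hd (2 * m + 1)) |>.symm, ih, ← mul_assoc, ← pow_succ']
  have h20 : r 2 = r 1 * r 0 * (r 1)⁻¹ := hrec 0
  have hc0 : r 0 * d * (r 0)⁻¹ = d⁻¹ := by
    rw [hd_def, h20]
    calc r 0 * (r 1 * r 0 * (r 1)⁻¹ * (r 0)⁻¹) * (r 0)⁻¹
        = r 0 * r 1 * r 0 * ((r 1)⁻¹ * ((r 0 * r 0)⁻¹)) := by group
      _ = r 0 * r 1 * r 0 * ((r 0 * r 0)⁻¹ * (r 1)⁻¹) := by rw [(hsq 0 1).inv_left.inv_right.eq]
      _ = _ := by group
  have hc1 : r 1 * d * (r 1)⁻¹ = d⁻¹ := by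
    rw [hd_def, h20]
    calc r 1 * (r 1 * r 0 * (r 1)⁻¹ * (r 0)⁻¹) * (r 1)⁻¹
        = ((r 1 * r 1) * r 0) * ((r 1)⁻¹ * (r 0)⁻¹ * (r 1)⁻¹) := by group
      _ = (r 0 * (r 1 * r 1)) * ((r 1)⁻¹ * (r 0)⁻¹ * (r 1)⁻¹) := by rw [(hsq 1 0).eq]
      _ = _ := by group
  have hc0' : ∀ n : ℕ, r 0 * d ^ n = (d ^ n)⁻¹ * r 0 := fun n => by
    rw [← mul_inv_eq_iff_eq_mul, ← conj_pow, hc0, inv_pow]
  set N := Nat.card Fˣ with hN
  have hgN : (g : F) ^ N = 1 := by rw [← Units.val_pow_eq_pow_val, pow_card_eq_one', Units.val_one]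
  have key : r 1 * r 1 = r 0 * r 0 := by
    rcases Nat.even_or_odd N with ⟨h, hh⟩ | ⟨m, hm⟩
    · -- odd characteristic: a non-square is a sum of two squares
      have hdh : d ^ h = 1 := by
        have e : r (2 * h) = r 0 := by
          simp only [hr]
          rw [show 2 * h = N by omega, hgN, pow_zero]
        rw [heven, mul_eq_right] at e
        exact e
      obtain ⟨a, c, hac⟩ : ∃ a c : F, (g : F) = a ^ 2 + c ^ 2 := by
        have := Fintype.ofFinite F
        obtain ⟨a, c, e⟩ := FiniteField.exists_root_sum_quadratic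
          (f := (Polynomial.X ^ 2 - Polynomial.C (g : F))) (g := (Polynomial.X ^ 2 : Polynomial F))
          (Polynomial.degree_X_pow_sub_C (by norm_num) _) (Polynomial.degree_X_pow 2) (by
            have e := Nat.card_units F
            rw [← hN, Nat.card_eq_fintype_card] at e
            have : 0 < Fintype.card F := Fintype.card_pos
            omega)
        simp only [Polynomial.eval_sub, Polynomial.eval_pow, Polynomial.eval_X, Polynomial.eval_C] at e
        exact ⟨a, c, by linear_combination -e⟩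
      have hns : ∀ z : F, z ^ 2 ≠ (g : F) := by
        intro z hz
        have hz0 : z ≠ 0 := by rintro rfl; exact g.ne_zero (by rw [← hz]; ring)
        obtain ⟨k, hk⟩ := hpow (Units.mk0 z hz0)
        have e : g ^ (2 * k) = g ^ 1 := by
          ext
          rw [pow_one, mul_comm, pow_mul, hk, Units.val_pow_eq_pow_val, Units.val_mk0, hz]
        rw [pow_eq_pow_iff_modEq, orderOf_eq_card_of_forall_mem_zpowers hg, ← hN, hh] at e
        have e2 := (Nat.ModEq.of_dvd (show (2 : ℕ) ∣ h + h from ⟨h, by ring⟩) e)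
        unfold Nat.ModEq at e2
        omega
      have ha : a ≠ 0 := by rintro rfl; exact hns c (by rw [hac]; ring)
      have hc : c ≠ 0 := by rintro rfl; exact hns a (by rw [hac]; ring)
      obtain ⟨i, hi⟩ := hpow (Units.mk0 a ha)
      obtain ⟨l, hl⟩ := hpow (Units.mk0 c hc)
      have hi' : (g : F) ^ (2 * i) = a ^ 2 := by
        rw [mul_comm, pow_mul, ← Units.val_pow_eq_pow_val, hi, Units.val_mk0]
      have hl' : (g : F) ^ (2 * l) = c ^ 2 := by
        rw [mul_comm, pow_mul, ← Units.val_pow_eq_pow_val, hl, Units.val_mk0]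
      have hh0 : 1 ≤ h := by
        have : 0 < N := Nat.card_pos
        omega
      set n := i + l + (h - 1) with hn
      have t := triple hx b (pow_ne_zero 2 ha) (pow_ne_zero 2 hc) (hac ▸ g.ne_zero)
      rw [← hac, ← hi', ← hl', show (g : F) ^ (2 * i) * (g : F) ^ (2 * l) / (g : F) = (g : F) ^ (2 * n + 1) by
        rw [div_eq_iff g.ne_zero, ← pow_succ, ← pow_add,
          show 2 * n + 1 + 1 = (2 * i + 2 * l) + N by omega, pow_add ((g : F)) _ N, hgN, mul_one]] at t
      change r (2 * n + 1) = r (2 * i) * (w x b (g : F))⁻¹ * r (2 * l) at t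
      rw [show w x b (g : F) = r 1 by simp [hr], hodd, heven, heven] at t
      have hc1' : (r 1)⁻¹ * d ^ l = (d ^ l)⁻¹ * (r 1)⁻¹ := by
        have e : r 1 * d ^ l * (r 1)⁻¹ = (d ^ l)⁻¹ := by rw [← conj_pow, hc1, inv_pow]
        have e' : r 1 * (d ^ l)⁻¹ * (r 1)⁻¹ = d ^ l := by
          rw [← inv_inj] at e
          simpa [mul_assoc] using e
        nth_rw 1 [← e']
        group
      rw [show d ^ i * r 0 * (r 1)⁻¹ * (d ^ l * r 0) = d ^ i * (r 0 * ((r 1)⁻¹ * d ^ l)) * r 0 by group,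
        hc1'] at t
      have e0 : r 0 * (d ^ l)⁻¹ = d ^ l * r 0 := by
        rw [mul_inv_eq_iff_eq_mul, mul_assoc, hc0', mul_inv_cancel_left]
      rw [show r 0 * ((d ^ l)⁻¹ * (r 1)⁻¹) = (r 0 * (d ^ l)⁻¹) * (r 1)⁻¹ by group, e0,
        show d ^ i * (d ^ l * r 0 * (r 1)⁻¹) * r 0 = d ^ (i + l) * (r 0 * (r 1)⁻¹ * r 0) by
          rw [pow_add]; group, hn, pow_add, mul_assoc, mul_left_cancel_iff] at t
      have e1 : d ^ (h - 1) = d⁻¹ := eq_inv_of_mul_eq_one_left (by rw [← pow_succ, Nat.sub_add_cancel hh0, hdh])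
      rw [e1, inv_mul_eq_iff_eq_mul, hd_def, h20] at t
      have t' : r 1 = r 1 * r 0 * ((r 1 * r 1)⁻¹ * r 0) := t.trans (by group)
      rw [(hsq 1 0).inv_left.eq, mul_assoc (r 1)] at t'
      have t2 := (left_eq_mul.1 t')
      rw [← mul_assoc, mul_inv_eq_one] at t2
      exact t2.symm
    · -- characteristic two
      have e : r (2 * m + 1) = r 0 := by
        simp only [hr]
        rw [← hm, hgN, pow_zero]
      rw [hodd] at e
      have e1 : r 1 = (d ^ m)⁻¹ * r 0 := eq_inv_mul_of_mul_eq e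
      rw [e1, ← mul_assoc, mul_assoc _ (r 0) _]
      rw [show r 0 * (d ^ m)⁻¹ = d ^ m * r 0 by rw [mul_inv_eq_iff_eq_mul, mul_assoc, hc0', mul_inv_cancel_left]]
      group
  set c := r 1 * (r 0)⁻¹ with hcdef
  have hall : ∀ k, r (k + 1) * (r k)⁻¹ = c ∧ r (k + 1) * r (k + 1) = r k * r k := by
    intro k
    induction k with
    | zero => exact ⟨rfl, key⟩
    | succ k ih =>
      have e : r (k + 2) * r (k + 2) = r (k + 1) * r (k + 1) := by
        rw [hrec k, ih.2]
        calc r (k + 1) * r k * (r (k + 1))⁻¹ * (r (k + 1) * r k * (r (k + 1))⁻¹)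
            = r (k + 1) * (r k * r k) * (r (k + 1))⁻¹ := by group
          _ = r k * r k := by rw [← (hsq k (k + 1)).eq, mul_inv_cancel_right]
      refine ⟨?_, e⟩
      rw [show k + 1 + 1 = k + 2 from rfl, hrec k]
      calc r (k + 1) * r k * (r (k + 1))⁻¹ * (r (k + 1))⁻¹
          = r (k + 1) * r k * (r (k + 1) * r (k + 1))⁻¹ := by group
        _ = r (k + 1) * (r k)⁻¹ := by rw [ih.2]; group
        _ = c := ih.1
  have hck : ∀ k, r k = c ^ k * r 0 := by
    intro k
    induction k with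
    | zero => simp
    | succ k ih =>
      calc r (k + 1) = r (k + 1) * (r k)⁻¹ * r k := by group
        _ = c * r k := by rw [(hall k).1]
        _ = _ := by rw [ih, ← mul_assoc, ← pow_succ']
  have hval : ∀ (t : Fˣ) (k : ℕ), g ^ k = t → w x b (t : F) * (w x b 1)⁻¹ = c ^ k := by
    rintro t k rfl
    rw [Units.val_pow_eq_pow_val, show w x b ((g : F) ^ k) = r k from rfl, hck,
      show r 0 = w x b 1 by simp [hr], mul_inv_cancel_right]
  refine ⟨MonoidHom.mk' (fun t => w x b (t : F) * (w x b 1)⁻¹) fun s t => ?_, fun t => by simp⟩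
  obtain ⟨i, rfl⟩ := hpow s
  obtain ⟨l, rfl⟩ := hpow t
  beta_reduce
  rw [hval _ i rfl, hval _ l rfl, hval _ (i + l) (pow_add g i l), pow_add]

end finite

/-- A homomorphism to `SL₂` with the standard values is injective on the group they generate. -/
theorem injective [Finite F] (hgen : Subgroup.closure (Set.range fun p : Bool × F => x p.1 p.2) = ⊤)
    (σ : G →* Matrix.SpecialLinearGroup (Fin 2) F)
    (h1 : ∀ t, (σ (x true t) : Matrix (Fin 2) (Fin 2) F) = !![1, t; 0, 1])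
    (h0 : ∀ t, (σ (x false t) : Matrix (Fin 2) (Fin 2) F) = !![1, 0; t, 1]) :
    Function.Injective σ := by
  obtain ⟨h, hh⟩ := exists_hom hx true
  set W := w x true (1 : F) with hW
  have one0 : (1 : F) ≠ 0 := one_ne_zero
  have hWW : W * W = h (-1) := by
    have hw : w x true (-1 : F) = W⁻¹ := (w_inv hx true 1).symm
    have e := hh (-1)
    rw [Units.val_neg, Units.val_one, hw, ← eq_mul_inv_iff_mul_eq] at e
    have e2 : h (-1) * h (-1) = 1 := by rw [← map_mul, neg_one_mul, neg_neg, map_one]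
    rw [← inv_eq_of_mul_eq_one_right e2, e, _root_.mul_inv_rev, inv_inv]
  have hconj : ∀ (t : Fˣ) (a : F), x true a * h t = h t * x true (a * ((t : F)⁻¹) ^ 2) := by
    intro t a
    have e1 := conj_opp hx true (t := (1 : F)) one0 (-(a * ((t : F)⁻¹) ^ 2))
    have e2 := conj_opp hx true (t := (t : F)) t.ne_zero (-(a * ((t : F)⁻¹) ^ 2))
    have e3 : -((t : F) ^ 2 * -(a * (t : F)⁻¹ ^ 2)) = a := by field_simp
    rw [one_pow, one_mul, neg_neg] at e1
    rw [e3, ← hh t] at e2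
    rw [← hW] at e1
    rw [← e1, ← e2]
    group
  have hflip : ∀ t : Fˣ, W * h t = h t⁻¹ * W := by
    intro t
    have e := conj_w hx true one0 t.ne_zero
    rw [one_pow, one_div, ← hh t, ← Units.val_inv_eq_inv_val, ← hh t⁻¹] at e
    calc W * h t = W * (h t * W) * W⁻¹ := by group
      _ = _ := e
  let A : Set G := {g | ∃ a t, g = x true a * h t} ∪ {g | ∃ a t c, g = x true a * h t * W * x true c}
  have hxA : ∀ c g, g ∈ A → x true c * g ∈ A := by
    rintro c _ (⟨a, t, rfl⟩ | ⟨a, t, e, rfl⟩)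
    · exact Or.inl ⟨c + a, t, by rw [hx.add, mul_assoc]⟩
    · exact Or.inr ⟨c + a, t, e, by rw [hx.add]; group⟩
  have hopp : ∀ z : F, z ≠ 0 → x false z = x true z⁻¹ * w x true (-z⁻¹) * x true z⁻¹ := fun z hz => by
    simp only [w, Bool.not_true, inv_neg, inv_inv, neg_neg, ← x_inv hx]; group
  have hWA : ∀ g ∈ A, W * g ∈ A := by
    rintro _ (⟨a, t, rfl⟩ | ⟨a, t, e, rfl⟩)
    · refine Or.inr ⟨0, t⁻¹, a * ((t : F)⁻¹) ^ 2, ?_⟩
      rw [x_zero hx, one_mul, hconj, ← mul_assoc, hflip]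
    · rcases eq_or_ne a 0 with rfl | ha
      · refine Or.inl ⟨((((t⁻¹ * -1 : Fˣ)) : F)) ^ 2 * e, t⁻¹ * -1, ?_⟩
        rw [x_zero hx, one_mul, hconj,
          show ((t⁻¹ * -1 : Fˣ) : F) ^ 2 * e * ((t⁻¹ * -1 : Fˣ) : F)⁻¹ ^ 2 = e by field_simp, map_mul, ← hWW,
          show W * (h t * W * x true e) = (W * h t) * W * x true e by group, hflip]
        group
      · obtain ⟨u, hu⟩ : ∃ u : Fˣ, (u : F) = a⁻¹ := ⟨Units.mk0 a⁻¹ (inv_ne_zero ha), rfl⟩
        have e1 : W * x true a * W⁻¹ = x false (-a) := by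
          rw [hW, hx.conj true 1 a one0]; simp
        have e2 : x false (-a) = x true (-a⁻¹) * w x true a⁻¹ * x true (-a⁻¹) := by
          rw [hopp _ (neg_ne_zero.2 ha), inv_neg, neg_neg]
        have e3 : W * (h t * W) = h (t⁻¹ * -1) := by
          rw [← mul_assoc, hflip, mul_assoc, hWW, map_mul]
        refine Or.inr ⟨-a⁻¹, u * (t⁻¹ * -1)⁻¹, -a⁻¹ * (((t⁻¹ * -1 : Fˣ)) : F)⁻¹ ^ 2 + e, ?_⟩
        rw [show W * (x true a * h t * W * x true e) =
          (W * x true a * W⁻¹) * (W * (h t * W)) * x true e by group, e1, e2, e3,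
          mul_assoc (x true (-a⁻¹) * w x true a⁻¹), hconj, ← hu, ← hh u,
          show x true (-(u : F)) * (h u * W) * (h (t⁻¹ * -1) * x true (-(u : F) * ((t⁻¹ * -1 : Fˣ) : F)⁻¹ ^ 2)) * x true e =
            x true (-(u : F)) * h u * (W * h (t⁻¹ * -1)) * (x true (-(u : F) * ((t⁻¹ * -1 : Fˣ) : F)⁻¹ ^ 2) * x true e) by group,
          hflip, hx.add, map_mul h u, map_inv h (t⁻¹ * -1)]
        group
  have hxH : ∀ t g, g ∈ A → h t * g ∈ A := by
    rintro t _ (⟨a, s, rfl⟩ | ⟨a, s, e, rfl⟩)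
    all_goals
      have e1 : h t * x true a = x true (a * (t : F) ^ 2) * h t := by
        rw [hconj]; congr 2; field_simp
    · exact Or.inl ⟨_, t * s, by rw [map_mul, ← mul_assoc, e1, mul_assoc]⟩
    · refine Or.inr ⟨a * (t : F) ^ 2, t * s, e, ?_⟩
      rw [map_mul, show h t * (x true a * h s * W * x true e) = (h t * x true a) * h s * W * x true e by group, e1]
      group
  have hyA : ∀ z g, g ∈ A → x false z * g ∈ A := by
    intro z g hg
    rcases eq_or_ne z 0 with rfl | hz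
    · rwa [x_zero hx, one_mul]
    obtain ⟨u, hu⟩ : ∃ u : Fˣ, (u : F) = -z⁻¹ :=
      ⟨Units.mk0 _ (neg_ne_zero.2 (inv_ne_zero hz)), rfl⟩
    rw [hopp z hz, ← hu, ← hh u, mul_assoc, mul_assoc, mul_assoc]
    exact hxA _ _ (hxH _ _ (hWA _ (hxA _ _ hg)))
  have hmem : ∀ g : G, g ∈ A := by
    intro g
    have hg : g ∈ Subgroup.closure (Set.range fun p : Bool × F => x p.1 p.2) := hgen ▸ Subgroup.mem_top g
    induction hg using Subgroup.closure_induction_left with
    | one => exact Or.inl ⟨0, 1, by rw [x_zero hx, map_one, one_mul]⟩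
    | mul_left a ha y _ ih =>
      obtain ⟨⟨b, t⟩, rfl⟩ := ha
      cases b
      · exact hyA t y ih
      · exact hxA t y ih
    | inv_mul_cancel a ha y _ ih =>
      obtain ⟨⟨b, t⟩, rfl⟩ := ha
      cases b
      · rw [x_inv hx]; exact hyA _ y ih
      · rw [x_inv hx]; exact hxA _ y ih
  have hw : ∀ u : F, u ≠ 0 → (σ (w x true u) : Matrix (Fin 2) (Fin 2) F) = !![0, u; -u⁻¹, 0] := by
    intro u hu
    simp only [w, Bool.not_true, map_mul, Matrix.SpecialLinearGroup.coe_mul, h1, h0, Matrix.mul_fin_two]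
    ext i j
    fin_cases i <;> fin_cases j <;> simp [hu] <;> field_simp <;> ring
  have hσh : ∀ t : Fˣ, (σ (h t) : Matrix (Fin 2) (Fin 2) F) = !![(t : F), 0; 0, (t : F)⁻¹] := by
    intro t
    have e : h t = w x true (t : F) * w x true (-1) := by
      rw [← w_inv hx, ← hh t, ← hW]; group
    rw [e, map_mul, Matrix.SpecialLinearGroup.coe_mul, hw _ t.ne_zero, hw _ (neg_ne_zero.2 one0), Matrix.mul_fin_two]
    ext i j
    fin_cases i <;> fin_cases j <;> simp
  rw [← MonoidHom.ker_eq_bot_iff, eq_bot_iff]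
  intro g hg
  have hg1 : (σ g : Matrix (Fin 2) (Fin 2) F) = 1 := by
    rw [MonoidHom.mem_ker.1 hg]; rfl
  rcases hmem g with ⟨a, t, rfl⟩ | ⟨a, t, c, rfl⟩
  · rw [map_mul, Matrix.SpecialLinearGroup.coe_mul, h1, hσh, Matrix.mul_fin_two] at hg1
    have e00 := congrFun (congrFun hg1 0) 0
    have e01 := congrFun (congrFun hg1 0) 1
    simp at e00 e01
    have ht : t = 1 := Units.ext (by simpa using e00)
    subst ht
    have ea : a = 0 := by simpa using e01
    rw [Subgroup.mem_bot, ea, x_zero hx, map_one, one_mul]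
  · simp only [map_mul, Matrix.SpecialLinearGroup.coe_mul, h1, hσh, hw _ one0, hW, Matrix.mul_fin_two] at hg1
    have e10 := congrFun (congrFun hg1 1) 0
    simp at e10

end Cfsg.Agent.SteinbergSL.Two
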